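import Mathlib

/-!
# Derivations and the normalization at a node
-/

set_option autoImplicit false
set_option linter.style.haveILetI false

universe u

open nonZeroDivisors

namespace Groth.Agent.H06NodeDer

variable {k : Type u} [Field k] {A B : Type u} [CommRing A] [CommRing B] [Algebra A B]

/-- `z` is the value at `b` of the derivation of `B` extending `D`. -/
def IsExt (D : A → A) (b z : B) : Prop :=
  ∀ c a : A, algebraMap A B c * b = algebraMap A B a →
    algebraMap A B c * z + b * algebraMap A B (D c) = algebraMap A B (D a)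

/-- One denominator suffices. -/
theorem isExt_of_eq (hinj : Function.Injective (algebraMap A B)) (D : A → A)
    (hD : ∀ a b, D (a * b) = a * D b + b * D a) {b z : B} {s a₀ : A} (hs : algebraMap A B s ∈ B⁰)
    (hb : algebraMap A B s * b = algebraMap A B a₀)
    (hz : algebraMap A B s * z = algebraMap A B (D a₀) - b * algebraMap A B (D s)) : IsExt D b z := by
  intro c a hca
  refine (mul_cancel_left_mem_nonZeroDivisors hs).mp ?_
  have h : s * a = c * a₀ := hinj (by rw [map_mul, map_mul, ← hca, ← hb]; ring)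
  have h' := congrArg (algebraMap A B ∘ D) h
  simp only [Function.comp_apply, hD, map_add, map_mul] at h'
  linear_combination algebraMap A B c * hz + algebraMap A B (D c) * hb - h' - algebraMap A B (D s) * hca

theorem IsExt.unique {D : A → A} {b z z' : B} (h : IsExt D b z) (h' : IsExt D b z') {s a₀ : A}
    (hs : algebraMap A B s ∈ B⁰) (hb : algebraMap A B s * b = algebraMap A B a₀) : z = z' :=
  (mul_cancel_left_mem_nonZeroDivisors hs).mp (add_right_cancel ((h s a₀ hb).trans (h' s a₀ hb).symm))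

variable [Algebra k A] [Algebra k B] [IsScalarTower k A B]

/-- The data of a node: two points over a maximal ideal whose ideal in `B` comes from `A`. -/
structure NodeData (k : Type u) [Field k] (A B : Type u) [CommRing A] [CommRing B] [Algebra A B] [Algebra k A]
    where
  P : Ideal A
  hP : P.IsMaximal
  res : ∀ a : A, ∃ c : k, a - algebraMap k A c ∈ P
  mem : ∀ q ∈ P, ∀ b : B, ∃ a ∈ P, algebraMap A B q * b = algebraMap A B a
  M₁ : Ideal B
  M₂ : Ideal B
  h₁ : M₁.IsMaximal
  h₂ : M₂.IsMaximal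
  c₁ : M₁.comap (algebraMap A B) = P
  c₂ : M₂.comap (algebraMap A B) = P
  e : B
  he₂ : e ∈ M₂
  he₁ : 1 - e ∈ M₁
  gen : ∀ b : B, ∃ a c : A, b = algebraMap A B a + algebraMap A B c * e

namespace NodeData

variable (N : NodeData k A B)

theorem mem_map_iff {x : B} : x ∈ N.P.map (algebraMap A B) ↔ ∃ a ∈ N.P, algebraMap A B a = x := by
  refine ⟨fun hx => ?_, fun ⟨a, ha, h⟩ => h ▸ Ideal.mem_map_of_mem _ ha⟩
  induction hx using Submodule.span_induction with
  | mem z hz => exact hz
  | zero => exact ⟨0, zero_mem _, map_zero _⟩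
  | add z w _ _ hz hw =>
    obtain ⟨a, ha, rfl⟩ := hz
    obtain ⟨a', ha', rfl⟩ := hw
    exact ⟨a + a', add_mem ha ha', map_add _ _ _⟩
  | smul r z _ hz =>
    obtain ⟨a, ha, rfl⟩ := hz
    obtain ⟨a', ha', h⟩ := N.mem a ha r
    exact ⟨a', ha', by rw [← h, smul_eq_mul, mul_comm]⟩

theorem mem_map_iff_mem {x : B} : x ∈ N.P.map (algebraMap A B) ↔ x ∈ N.M₁ ∧ x ∈ N.M₂ := by
  refine ⟨fun h => ⟨Ideal.map_le_iff_le_comap.mpr N.c₁.ge h, Ideal.map_le_iff_le_comap.mpr N.c₂.ge h⟩,
    fun ⟨h1, h2⟩ => ?_⟩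
  obtain ⟨a, c, rfl⟩ := N.gen x
  have ha : a ∈ N.P := N.c₂ ▸ Ideal.mem_comap.mpr
    ((N.M₂.add_mem_iff_left (Ideal.mul_mem_left _ _ N.he₂)).mp h2)
  have hc : c ∈ N.P := N.c₁ ▸ Ideal.mem_comap.mpr (by
    have h3 := add_mem (Ideal.sub_mem _ h1 (Ideal.mem_comap.mp (N.c₁.ge ha)))
      (Ideal.mul_mem_left _ (algebraMap A B c) N.he₁)
    convert h3 using 1
    ring)
  exact add_mem (Ideal.mem_map_of_mem _ ha) (Ideal.mul_mem_right _ _ (Ideal.mem_map_of_mem _ hc))

theorem w_mem : N.e * (1 - N.e) ∈ N.P.map (algebraMap A B) :=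
  N.mem_map_iff_mem.mpr ⟨Ideal.mul_mem_left _ _ N.he₁, Ideal.mul_mem_right _ _ N.he₂⟩

theorem eq_or_eq (M : Ideal B) [M.IsPrime] (hM : M.comap (algebraMap A B) = N.P) : M = N.M₁ ∨ M = N.M₂ := by
  have hle : N.M₁ * N.M₂ ≤ M := Ideal.mul_le.mpr fun a ha b hb => by
    have h : a * b ∈ N.P.map (algebraMap A B) :=
      N.mem_map_iff_mem.mpr ⟨Ideal.mul_mem_right _ _ ha, Ideal.mul_mem_left _ _ hb⟩
    exact Ideal.map_le_iff_le_comap.mpr hM.ge h
  have hne : M ≠ ⊤ := Ideal.IsPrime.ne_top inferInstance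
  rcases (inferInstance : M.IsPrime).mul_le.mp hle with h | h
  · exact Or.inl (N.h₁.eq_of_le hne h).symm
  · exact Or.inr (N.h₂.eq_of_le hne h).symm

variable [IsNoetherianRing B]
  (hinj : Function.Injective (algebraMap A B)) {t : A} (ht : t ∈ N.P) (htB : algebraMap A B t ∈ B⁰)

include ht htB in
theorem exists_notMem_mul (M : Ideal B) (hM : M.IsMaximal) :
    ∃ y ∈ N.P.map (algebraMap A B), y ∉ N.P.map (algebraMap A B) * M := by
  by_contra h
  push_neg at h
  have hfg : (N.P.map (algebraMap A B)).FG := IsNoetherian.noetherian _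
  obtain ⟨r, hr, hr0⟩ := Submodule.exists_sub_one_mem_and_smul_eq_zero_of_fg_of_le_smul M
    (N.P.map (algebraMap A B)) hfg (fun x hx => by rw [Ideal.smul_eq_mul, mul_comm]; exact h x hx)
  have h0 : r * algebraMap A B t = 0 := hr0 _ (Ideal.mem_map_of_mem _ ht)
  rw [mem_nonZeroDivisors_iff_right.mp htB r h0, zero_sub] at hr
  exact hM.ne_top ((Ideal.eq_top_iff_one _).mpr (neg_mem_iff.mp hr))

variable (D : A → A) (hDadd : ∀ a b, D (a + b) = D a + D b) (hD : ∀ a b, D (a * b) = a * D b + b * D a)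
  (hDk : ∀ c : k, D (algebraMap k A c) = 0)

include hinj ht htB hDadd hD in
theorem apply_mem_of_mem {p : A} (hp : p ∈ N.P) : D p ∈ N.P := by
  let J := N.P.map (algebraMap A B)
  obtain ⟨y₁, hy₁, hy₁'⟩ := N.exists_notMem_mul ht htB N.M₁ N.h₁
  obtain ⟨y₂, hy₂, hy₂'⟩ := N.exists_notMem_mul ht htB N.M₂ N.h₂
  obtain ⟨Y, hY, hY₁, hY₂⟩ : ∃ Y ∈ J, Y ∉ J * N.M₁ ∧ Y ∉ J * N.M₂ := by
    by_cases ha : y₁ ∈ J * N.M₂
    · by_cases hb : y₂ ∈ J * N.M₁
      · refine ⟨y₁ + y₂, add_mem hy₁ hy₂, fun h => hy₁' ?_, fun h => hy₂' ?_⟩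
        · exact ((J * N.M₁).add_mem_iff_left hb).mp h
        · exact ((J * N.M₂).add_mem_iff_right ha).mp h
      · exact ⟨y₂, hy₂, hb, hy₂'⟩
    · exact ⟨y₁, hy₁, hy₁', ha⟩
  obtain ⟨y, hy, rfl⟩ := N.mem_map_iff.mp hY
  obtain ⟨w, hw, hwe⟩ := N.mem_map_iff.mp N.w_mem
  -- the two parts of an element of `P`
  have key : ∀ (ε : B) (M : Ideal B), N.P ≤ M.comap (algebraMap A B) → ε ∈ M → (1 - ε) * ε = algebraMap A B w → algebraMap A B y ∉ J * M →
      ∀ u : A, algebraMap A B u = algebraMap A B p * ε → D u ∈ N.P := by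
    intro ε M hMP hε hεw hYM u hu
    obtain ⟨v, hv, hve⟩ := N.mem y hy (1 - ε)
    have huP : u ∈ N.P := by
      obtain ⟨u', hu', he⟩ := N.mem p hp ε
      rwa [hinj (hu.trans he)]
    have huv : u * v = p * y * w := hinj (by rw [map_mul, map_mul, map_mul, hu, ← hve, ← hεw]; ring)
    have h2 : algebraMap A B (u * D v + v * D u) ∈ J * J := by
      rw [← hD, huv, hD, hD, ← Ideal.map_mul]
      refine Ideal.mem_map_of_mem _ (add_mem ?_ ?_)
      · exact Ideal.mul_mem_right _ _ (Ideal.mul_mem_mul hp hy)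
      · rw [mul_add, ← mul_assoc, ← mul_assoc]
        exact add_mem (Ideal.mul_mem_right _ _ (Ideal.mul_mem_mul hw hp))
          (Ideal.mul_mem_right _ _ (Ideal.mul_mem_mul hw hy))
    by_contra hDu
    obtain ⟨c, hc⟩ := N.hP.exists_inv hDu
    obtain ⟨q, hq, hqe⟩ := hc
    refine hYM ?_
    have hεJ : ∀ z ∈ J * J, z * (1 - ε) ∈ J * J := fun z hz => Ideal.mul_mem_right _ _ hz
    have h3 : algebraMap A B y * (1 - ε) ^ 2 * algebraMap A B (D u) ∈ J * J := by
      have h4 : algebraMap A B (u * D v + v * D u) * (1 - ε) =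
          algebraMap A B y * (1 - ε) ^ 2 * algebraMap A B (D u) +
            algebraMap A B p * algebraMap A B w * algebraMap A B (D v) := by
        rw [map_add, map_mul, map_mul, hu, ← hve, ← hεw]; ring
      have h5 : algebraMap A B p * algebraMap A B w * algebraMap A B (D v) ∈ J * J :=
        Ideal.mul_mem_right _ _ (Ideal.mul_mem_mul (Ideal.mem_map_of_mem _ hp) (Ideal.mem_map_of_mem _ hw))
      exact ((J * J).add_mem_iff_left h5).mp (h4 ▸ hεJ _ h2)
    have hJM' : J * J ≤ J * M := Ideal.mul_mono le_rfl (Ideal.map_le_iff_le_comap.mpr hMP)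
    have hdec : algebraMap A B y = algebraMap A B y * (1 - ε) ^ 2 * (algebraMap A B c * algebraMap A B (D u))
        + (algebraMap A B y * (1 - ε) ^ 2 * algebraMap A B q + algebraMap A B y * (ε * (2 - ε))) := by
      have h6 : algebraMap A B c * algebraMap A B (D u) + algebraMap A B q = 1 := by
        rw [← map_mul, ← map_add, hqe, map_one]
      linear_combination (- algebraMap A B y * (1 - ε) ^ 2) * h6
    rw [hdec]
    refine add_mem ?_ (add_mem ?_ ?_)
    · rw [mul_left_comm]
      exact Ideal.mul_mem_left _ _ (hJM' h3)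
    · rw [mul_right_comm]
      refine hJM' (Ideal.mul_mem_right _ _ (Ideal.mul_mem_mul (Ideal.mem_map_of_mem _ hy) ?_))
      exact Ideal.mem_map_of_mem _ hq
    · exact Ideal.mul_mem_mul (Ideal.mem_map_of_mem _ hy) (Ideal.mul_mem_right _ _ hε)
  obtain ⟨u₁, hu₁, he₁⟩ := N.mem p hp N.e
  obtain ⟨u₂, hu₂, he₂⟩ := N.mem p hp (1 - N.e)
  have hsum : p = u₁ + u₂ := hinj (by rw [map_add, ← he₁, ← he₂]; ring)
  rw [hsum, hDadd]
  refine add_mem (key N.e N.M₂ N.c₂.ge N.he₂ ?_ hY₂ u₁ he₁.symm) (key (1 - N.e) N.M₁ N.c₁.ge N.he₁ ?_ hY₁ u₂ he₂.symm)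
  · rw [hwe]; ring
  · rw [hwe]; ring

variable (hnorm : ∀ (M : Ideal B) [M.IsMaximal],
  IsDomain (Localization.AtPrime M) ∧ IsIntegrallyClosed (Localization.AtPrime M))

include hDk hDadd hD hinj ht htB in
theorem apply_mem (a : A) : D a ∈ N.P := by
  obtain ⟨c, hc⟩ := N.res a
  have h : D a = D (algebraMap k A c) + D (a - algebraMap k A c) := by
    rw [← hDadd]; congr 1; ring
  rw [h, hDk, zero_add]
  exact N.apply_mem_of_mem hinj ht htB D hDadd hD hc

include hDk hDadd hD hinj ht htB hnorm in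
/-- The derivation extends to `B`. -/
theorem exists_isExt {b : B} {s a₀ : A} (hs : algebraMap A B s ∈ B⁰)
    (hb : algebraMap A B s * b = algebraMap A B a₀) : ∃ z, IsExt D b z := by
  let J := N.P.map (algebraMap A B)
  set y := algebraMap A B (D a₀) - b * algebraMap A B (D s) with hy
  have hJy : ∀ q ∈ J, ∃ q' ∈ J, q * y = algebraMap A B s * q' := by
    intro q hq
    obtain ⟨p, hp, rfl⟩ := N.mem_map_iff.mp hq
    obtain ⟨a₁, ha₁, he⟩ := N.mem p hp b
    refine ⟨algebraMap A B (D a₁) - b * algebraMap A B (D p), sub_mem ?_ ?_, ?_⟩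
    · exact Ideal.mem_map_of_mem _ (N.apply_mem_of_mem hinj ht htB D hDadd hD ha₁)
    · exact Ideal.mul_mem_left _ _ (Ideal.mem_map_of_mem _ (N.apply_mem_of_mem hinj ht htB D hDadd hD hp))
    · have h : s * a₁ = p * a₀ := hinj (by rw [map_mul, map_mul, ← he, ← hb]; ring)
      have h' := congrArg (algebraMap A B ∘ D) h
      simp only [Function.comp_apply, hD, map_add, map_mul] at h'
      rw [hy]
      linear_combination (-1 : B) * h' + algebraMap A B (D p) * hb - algebraMap A B (D s) * he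
  have hmem : y ∈ Ideal.span {algebraMap A B s} := by
    refine Ideal.mem_of_localization_maximal fun M hM => ?_
    haveI := hM
    obtain ⟨hd, hn⟩ := hnorm M
    let C := Localization.AtPrime M
    haveI := hd
    haveI := hn
    let K := FractionRing C
    let g : B →+* K := (algebraMap C K).comp (algebraMap B C)
    have hg0 : ∀ {x : B}, x ∈ B⁰ → g x ≠ 0 := fun {x} hx h => by
      have h1 : algebraMap B C x = 0 := IsFractionRing.injective C K (h.trans (map_zero _).symm)
      obtain ⟨m, hm⟩ := (IsLocalization.map_eq_zero_iff M.primeCompl C x).mp h1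
      exact m.2 (by rw [mem_nonZeroDivisors_iff_right.mp hx _ hm]; exact M.zero_mem)
    let S : Submodule C K := Submodule.span C (g '' (J : Set B))
    have hS : S.FG := by
      obtain ⟨G, hG⟩ : J.FG := IsNoetherian.noetherian _
      classical
      refine ⟨G.image g, le_antisymm (Submodule.span_mono ?_) (Submodule.span_le.mpr ?_)⟩
      · rw [Finset.coe_image]
        exact Set.image_mono (hG ▸ Submodule.subset_span)
      · rintro _ ⟨x, hx, rfl⟩
        have hx' : x ∈ Submodule.span B (G : Set B) := hG.ge hx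
        rw [Finset.coe_image]
        induction hx' using Submodule.span_induction with
        | mem z hz => exact Submodule.subset_span ⟨z, hz, rfl⟩
        | zero => rw [map_zero]; exact zero_mem _
        | add z w hz' hw' hz hw =>
          rw [map_add]
          exact add_mem (hz (hG.le hz')) (hw (hG.le hw'))
        | smul r z hz' hz =>
          rw [smul_eq_mul, map_mul, show g r * g z = algebraMap B C r • g z from
            (Algebra.smul_def (algebraMap B C r) (g z)).symm]
          exact Submodule.smul_mem _ _ (hz (hG.le hz'))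
    have hint : IsIntegral C (g y / g (algebraMap A B s)) := by
      refine isIntegral_of_smul_mem_submodule S ?_ hS _ fun x hx => ?_
      · intro h
        exact hg0 htB ((Submodule.eq_bot_iff S).mp h _
          (Submodule.subset_span ⟨_, Ideal.mem_map_of_mem _ ht, rfl⟩))
      · induction hx using Submodule.span_induction with
        | mem z hz =>
          obtain ⟨q, hq, rfl⟩ := hz
          obtain ⟨q', hq', he⟩ := hJy q hq
          refine Submodule.subset_span ⟨q', hq', ?_⟩
          rw [smul_eq_mul, div_mul_eq_mul_div, eq_div_iff (hg0 hs), ← map_mul, ← map_mul,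
            mul_comm y, he, mul_comm q']
        | zero => rw [smul_zero]; exact zero_mem _
        | add z w _ _ hz hw => rw [smul_add]; exact add_mem hz hw
        | smul r z _ hz => rw [smul_comm]; exact Submodule.smul_mem _ _ hz
    obtain ⟨c, hc⟩ := IsIntegrallyClosed.algebraMap_eq_of_integral hint
    rw [eq_div_iff (hg0 hs)] at hc
    rw [Ideal.map_span, Set.image_singleton, Ideal.mem_span_singleton']
    exact ⟨c, IsFractionRing.injective C K (by rw [map_mul]; exact hc)⟩
  obtain ⟨z, hz⟩ := Ideal.mem_span_singleton'.mp hmem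
  exact ⟨z, isExt_of_eq hinj D hD hs hb (by rw [mul_comm]; exact hz)⟩

include hDk hDadd hD hinj ht htB in
/-- The extension vanishes at both points. -/
theorem mem_map_of_isExt (δ : B → B) (hδ : ∀ b, IsExt D b (δ b))
    (hδadd : ∀ a b, δ (a + b) = δ a + δ b) (hδmul : ∀ a b, δ (a * b) = a * δ b + b * δ a) (b : B) :
    δ b ∈ N.P.map (algebraMap A B) := by
  have hδD : ∀ a, δ (algebraMap A B a) = algebraMap A B (D a) := fun a => by
    have h := hδ (algebraMap A B a) 1 a (by rw [map_one, one_mul])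
    have h1 : D 1 = 0 := by simpa using hD 1 1
    rwa [map_one, one_mul, h1, map_zero, mul_zero, add_zero] at h
  have hA : ∀ a, algebraMap A B (D a) ∈ N.P.map (algebraMap A B) := fun a =>
    Ideal.mem_map_of_mem _ (N.apply_mem hinj ht htB D hDadd hD hDk a)
  obtain ⟨w, -, hwe⟩ := N.mem_map_iff.mp N.w_mem
  have he : δ N.e ∈ N.P.map (algebraMap A B) := by
    have hone : δ (1 - N.e) = - δ N.e := by
      have h := hδadd N.e (1 - N.e)
      rw [add_sub_cancel, ← map_one (algebraMap A B), hδD, show D 1 = 0 by simpa using hD 1 1, map_zero] at h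
      rw [map_one] at h
      exact eq_neg_of_add_eq_zero_right h.symm
    have h := hA w
    rw [← hδD, hwe, hδmul, hone] at h
    have h2 : N.e * -δ N.e + (1 - N.e) * δ N.e = (1 - 2 * N.e) * δ N.e := by ring
    rw [h2] at h
    have h3 : δ N.e = (1 - 2 * N.e) * ((1 - 2 * N.e) * δ N.e) + 4 * (N.e * (1 - N.e)) * δ N.e := by ring
    rw [h3]
    exact add_mem (Ideal.mul_mem_left _ _ h) (Ideal.mul_mem_right _ _ (Ideal.mul_mem_left _ _ N.w_mem))
  obtain ⟨a, c, rfl⟩ := N.gen b
  rw [hδadd, hδmul, hδD, hδD]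
  exact add_mem (hA a) (add_mem (Ideal.mul_mem_left _ _ he) (Ideal.mul_mem_left _ _ (hA c)))

/-- A derivation of `B` fixing the two points maps `A` to `A`. -/
theorem mem_range_of_fix (δ : B → B) (hδadd : ∀ a b, δ (a + b) = δ a + δ b)
    (hδk : ∀ c : k, δ (algebraMap A B (algebraMap k A c)) = 0)
    (h₁ : ∀ y ∈ N.M₁, δ y ∈ N.M₁) (h₂ : ∀ y ∈ N.M₂, δ y ∈ N.M₂) (a : A) :
    δ (algebraMap A B a) ∈ Set.range (algebraMap A B) := by
  obtain ⟨c, hc⟩ := N.res a
  have h : δ (algebraMap A B a) = δ (algebraMap A B (algebraMap k A c)) + δ (algebraMap A B (a - algebraMap k A c)) := by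
    rw [← hδadd, ← map_add]; congr 2; ring
  rw [h, hδk, zero_add]
  obtain ⟨p, -, hp⟩ := N.mem_map_iff.mp (N.mem_map_iff_mem.mpr
    ⟨h₁ _ (Ideal.mem_comap.mp (N.c₁.ge hc)), h₂ _ (Ideal.mem_comap.mp (N.c₂.ge hc))⟩)
  exact ⟨p, hp⟩

end NodeData

end Groth.Agent.H06NodeDer
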