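import Groth.Agent.H06NodeDer.Algebra
import Groth.Agent.H06SNPush.Algebra
import Groth.Agent.H06NormCurve.Chart
import Groth.Agent.H06NormCurve.Node
import Groth.Agent.H06Wedge.Core
import Groth.Agent.S9829
import Groth.Agent.H06SNPush.Scheme

/-!
# Small affine charts of the normalization of a nodal curve
-/

set_option autoImplicit false
set_option linter.style.haveILetI false

universe u

open CategoryTheory CategoryTheory.Limits AlgebraicGeometry TopologicalSpace Opposite nonZeroDivisors IsLocalRing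

namespace Groth.Agent.H06NodeDer

/-- A power of a denominator multiplies the extension into the base. -/
theorem exists_pow_mem_cond {A B : Type u} [CommRing A] [CommRing B] [Algebra A B] [Module.Finite A B] {t : A}
    (hden : ∀ b : B, ∃ (n : ℕ) (a : A), algebraMap A B t ^ n * b = algebraMap A B a) :
    ∃ N, algebraMap A B (t ^ N) ∈ H06SNPush.cond A B := by
  classical
  obtain ⟨G, hG⟩ := Module.Finite.fg_top (R := A) (M := B)
  choose n a ha using hden
  refine ⟨G.sup n, H06SNPush.mem_cond.mpr fun b => ?_⟩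
  have hb : b ∈ Submodule.span A (G : Set B) := hG ▸ Submodule.mem_top
  induction hb using Submodule.span_induction with
  | mem z hz =>
    refine ⟨t ^ (G.sup n - n z) * a z, ?_⟩
    rw [map_mul, map_pow, map_pow, ← ha z, ← mul_assoc, ← pow_add, Nat.sub_add_cancel (Finset.le_sup hz)]
  | zero => exact ⟨0, by rw [map_zero, mul_zero]⟩
  | add z w _ _ hz hw =>
    obtain ⟨a, ha⟩ := hz
    obtain ⟨a', ha'⟩ := hw
    exact ⟨a + a', by rw [map_add, ha, ha', mul_add]⟩
  | smul c z _ hz =>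
    obtain ⟨a, ha⟩ := hz
    exact ⟨c * a, by rw [map_mul, ha, Algebra.smul_def]; ring⟩

/-- The facts at a prime whose local ring is that of a node. -/
theorem node_facts {A B : Type u} [CommRing A] [CommRing B] [Algebra A B] [Module.Finite A B]
    (hinj : Function.Injective (algebraMap A B)) {t : A} (ht : t ∈ A⁰) (htB : algebraMap A B t ∈ B⁰)
    (hden : ∀ b : B, ∃ (n : ℕ) (a : A), algebraMap A B t ^ n * b = algebraMap A B a)
    (hnorm : ∀ (M : Ideal B) [M.IsMaximal], IsDomain (Localization.AtPrime M) ∧ IsIntegrallyClosed (Localization.AtPrime M))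
    (p : Ideal A) [p.IsMaximal] (A' : Type u) [CommRing A'] [IsLocalRing A'] [Algebra A A']
    [IsLocalization.AtPrime A' p] (hδ : Curv2.deltaInv A' = 1)
    (hbr : ENat.card (MaximalSpectrum (integralClosure A' (FractionRing A'))) = 2) :
    (∀ q ∈ p, ∀ b : B, ∃ s ∉ p, ∃ a : A, algebraMap A B (s * q) * b = algebraMap A B a) ∧
    (∃ M₁ M₂ : Ideal B, M₁.IsMaximal ∧ M₂.IsMaximal ∧ M₁ ≠ M₂ ∧
      M₁.comap (algebraMap A B) = p ∧ M₂.comap (algebraMap A B) = p) ∧
    (∀ e : B, (∀ s ∉ p, ∀ a : A, algebraMap A B s * e ≠ algebraMap A B a) →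
      ∀ b : B, ∃ s ∉ p, ∃ a c : A, algebraMap A B s * b = algebraMap A B a + algebraMap A B c * e) := by
  have hcm : (maximalIdeal A').comap (algebraMap A A') = p := IsLocalization.AtPrime.under_maximalIdeal A' p
  let M := Algebra.algebraMapSubmonoid B p.primeCompl
  let B' := Localization M
  letI : Algebra A' B' := (IsLocalization.map B' (T := M) (algebraMap A B)
    (show p.primeCompl ≤ M.comap (algebraMap A B) from Submonoid.le_comap_map _) : A' →+* B').toAlgebra
  haveI : IsScalarTower A A' B' := .of_algebraMap_eq fun a => by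
    rw [RingHom.algebraMap_toAlgebra, IsLocalization.map_eq]
    rfl
  haveI : Module.Finite A' B' := Module.Finite.of_isLocalization A B p.primeCompl
  haveI : Algebra.IsIntegral A' B' := Algebra.IsIntegral.of_finite A' B'
  have hinj' : Function.Injective (algebraMap A' B') := by
    rw [RingHom.algebraMap_toAlgebra]
    haveI : IsLocalization (Submonoid.map (algebraMap A B) p.primeCompl) B' := inferInstanceAs (IsLocalization M B')
    exact IsLocalization.map_injective_of_injective (g := algebraMap A B) p.primeCompl A' B' hinj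
  have key : ∀ {R : Type u} [CommRing R] (S : Submonoid R) {R' : Type u} [CommRing R'] [Algebra R R']
      [IsLocalization S R'] {r : R}, r ∈ R⁰ → algebraMap R R' r ∈ R'⁰ := by
    intro R _ S R' _ _ _ r hr
    refine mem_nonZeroDivisors_iff_right.2 fun z hz => ?_
    obtain ⟨⟨c, s⟩, h⟩ := IsLocalization.surj S z
    have h1 : algebraMap R R' (c * r) = 0 := by rw [map_mul, ← h, mul_right_comm, hz, zero_mul]
    obtain ⟨m, hm⟩ := (IsLocalization.map_eq_zero_iff S R' _).1 h1
    rw [← mul_assoc] at hm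
    have h2 : (m : R) * c = 0 := mem_nonZeroDivisors_iff_right.1 hr _ hm
    have h3 : algebraMap R R' c = 0 := (IsLocalization.map_eq_zero_iff S R' _).2 ⟨m, h2⟩
    rw [h3] at h
    exact (IsLocalization.map_units R' s).mul_left_eq_zero.1 h
  let t' : A' := algebraMap A A' t
  have ht'B : algebraMap A' B' t' = algebraMap B B' (algebraMap A B t) :=
    (IsScalarTower.algebraMap_apply A A' B' t).symm.trans (IsScalarTower.algebraMap_apply A B B' t)
  obtain ⟨E⟩ := H06NormCurve.exists_algEquiv_integralClosure A' B' hinj' t' (key p.primeCompl ht)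
    (ht'B ▸ key M htB)
    (fun z => by
      obtain ⟨⟨b, ⟨_, s, hs, rfl⟩⟩, h⟩ := IsLocalization.surj M z
      obtain ⟨n, a, ha⟩ := hden b
      refine ⟨n, IsLocalization.mk' A' a (⟨s, hs⟩ : p.primeCompl), ?_⟩
      refine (IsLocalization.map_units B' (⟨_, s, hs, rfl⟩ : M)).mul_left_injective ?_
      show algebraMap A' B' t' ^ n * z * algebraMap B B' (algebraMap A B s) =
        algebraMap A' B' _ * algebraMap B B' (algebraMap A B s)
      rw [mul_assoc, h, ht'B, ← map_pow, ← map_mul, ha, ← IsScalarTower.algebraMap_apply A B B' s,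
        IsScalarTower.algebraMap_apply A A' B' s, ← map_mul, IsLocalization.mk'_spec,
        ← IsScalarTower.algebraMap_apply, IsScalarTower.algebraMap_apply A B B' a]
      exact (IsScalarTower.algebraMap_apply A B B' a).symm.trans (IsScalarTower.algebraMap_apply A A' B' a))
    (fun P hP => by
      let P₀ := P.comap (algebraMap B B')
      haveI : (P₀.comap (algebraMap A B)).IsPrime := inferInstance
      obtain ⟨Mx, hMx, hle⟩ := Ideal.exists_le_maximal P₀ (Ideal.IsPrime.ne_top inferInstance)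
      haveI := hMx
      have hP₀ : P₀.IsMaximal := by
        refine Ideal.isMaximal_of_isIntegral_of_isMaximal_comap (R := A) P₀ ?_
        have h1 : (P.comap (algebraMap A' B')).IsMaximal :=
          Ideal.isMaximal_comap_of_isIntegral_of_isMaximal P
        have h2 : P₀.comap (algebraMap A B) = p := by
          show (P.comap (algebraMap B B')).comap (algebraMap A B) = p
          rw [Ideal.comap_comap, ← IsScalarTower.algebraMap_eq, IsScalarTower.algebraMap_eq A A' B',
            ← Ideal.comap_comap, IsLocalRing.eq_maximalIdeal h1,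
            hcm]
        rw [h2]; infer_instance
      haveI := hP₀
      obtain ⟨hd, hn⟩ := hnorm P₀
      let e := (IsLocalization.localizationLocalizationAtPrimeIsoLocalization M P).toRingEquiv
      haveI := hd
      haveI := hn
      exact ⟨e.symm.injective.isDomain _, IsIntegrallyClosed.of_equiv e⟩)
  let C := integralClosure A' (FractionRing A')
  let ι : B →+* C := (E : B' →+* C).comp (algebraMap B B')
  have hιA : ∀ a : A, ι (algebraMap A B a) = algebraMap A' C (algebraMap A A' a) := fun a => by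
    show E (algebraMap B B' (algebraMap A B a)) = _
    rw [← IsScalarTower.algebraMap_apply A B B', IsScalarTower.algebraMap_apply A A' B', E.commutes]
  have hι : ∀ {b b' : B}, ι b = ι b' → ∃ s ∉ p, algebraMap A B s * b = algebraMap A B s * b' := by
    intro b b' h
    obtain ⟨⟨_, s, hs, rfl⟩, he⟩ := (IsLocalization.eq_iff_exists M B').mp (E.injective h)
    exact ⟨s, hs, he⟩
  let Q := ↥C ⧸ LinearMap.range (Algebra.linearMap A' ↥C)
  haveI hQ : IsSimpleModule A' Q := Module.length_eq_one_iff.mp hδ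
  have hsurjA : ∀ z : A', ∃ s ∉ p, ∃ a : A, z * algebraMap A A' s = algebraMap A A' a := fun z => by
    obtain ⟨⟨a, s⟩, h⟩ := IsLocalization.surj p.primeCompl z
    exact ⟨s, s.2, a, h⟩
  refine ⟨fun q hq b => ?_, ?_, fun e he b => ?_⟩
  · have hann : maximalIdeal A' ≤ Module.annihilator A' Q :=
      (IsLocalRing.eq_maximalIdeal (IsSimpleModule.annihilator_isMaximal (R := A') (M := Q))).ge
    have hq' : algebraMap A A' q ∈ maximalIdeal A' := by
      rwa [← Ideal.mem_comap, hcm]
    have h1 : algebraMap A A' q • (Submodule.Quotient.mk (ι b) : Q) = 0 :=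
      Module.mem_annihilator.mp (hann hq') _
    rw [← Submodule.Quotient.mk_smul, Submodule.Quotient.mk_eq_zero] at h1
    obtain ⟨z, hz⟩ := h1
    obtain ⟨s, hs, a, ha⟩ := hsurjA z
    have h2 : ι (algebraMap A B (s * q) * b) = ι (algebraMap A B a) := by
      rw [map_mul, hιA, hιA, ← ha, map_mul, map_mul, map_mul,
        show algebraMap A' C z = algebraMap A A' q • ι b from hz, Algebra.smul_def]
      ring
    obtain ⟨u, hu, hue⟩ := hι h2
    refine ⟨u * s, Submonoid.mul_mem p.primeCompl hu hs, u * a, ?_⟩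
    rw [map_mul (algebraMap A B) u a, ← hue]
    simp only [map_mul]
    ring
  · haveI : Algebra.IsIntegral A' C := inferInstance
    obtain ⟨P₁, P₂, hne⟩ : ∃ P₁ P₂ : MaximalSpectrum C, P₁ ≠ P₂ := by
      haveI : Nontrivial (MaximalSpectrum C) := (ENat.one_lt_card_iff_nontrivial _).mp (by rw [hbr]; norm_num)
      exact exists_pair_ne _
    have hc : ∀ P : MaximalSpectrum C, (P.asIdeal.comap ι).IsMaximal ∧
        (P.asIdeal.comap ι).comap (algebraMap A B) = p := fun P => by
      haveI := P.isMaximal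
      have h1 : (P.asIdeal.comap (algebraMap A' C)).IsMaximal :=
        Ideal.isMaximal_comap_of_isIntegral_of_isMaximal P.asIdeal
      have h2 : (P.asIdeal.comap ι).comap (algebraMap A B) = p := by
        rw [Ideal.comap_comap, show ι.comp (algebraMap A B) = (algebraMap A' C).comp (algebraMap A A') from
          RingHom.ext hιA, ← Ideal.comap_comap, IsLocalRing.eq_maximalIdeal h1,
          hcm]
      haveI : (P.asIdeal.comap ι).IsPrime := Ideal.IsPrime.comap ι
      exact ⟨Ideal.isMaximal_of_isIntegral_of_isMaximal_comap (R := A) _ (by rw [h2]; infer_instance), h2⟩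
    refine ⟨_, _, (hc P₁).1, (hc P₂).1, fun h => hne ?_, (hc P₁).2, (hc P₂).2⟩
    have h' : P₁.asIdeal.comap (E : B' →+* C) = P₂.asIdeal.comap (E : B' →+* C) := by
      haveI := P₁.isMaximal
      haveI := P₂.isMaximal
      rw [← IsLocalization.map_comap M B' (P₁.asIdeal.comap (E : B' →+* C)),
        ← IsLocalization.map_comap M B' (P₂.asIdeal.comap (E : B' →+* C))]
      exact congrArg (Ideal.map (algebraMap B B')) h
    exact MaximalSpectrum.ext (Ideal.comap_injective_of_surjective _ E.surjective h')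
  · have hne : (Submodule.Quotient.mk (ι e) : Q) ≠ 0 := fun h => by
      rw [Submodule.Quotient.mk_eq_zero] at h
      obtain ⟨z, hz⟩ := h
      obtain ⟨s, hs, a, ha⟩ := hsurjA z
      have h2 : ι (algebraMap A B s * e) = ι (algebraMap A B a) := by
        rw [map_mul, hιA, hιA, ← ha, map_mul, ← show algebraMap A' C z = ι e from hz]
        ring
      obtain ⟨u, hu, hue⟩ := hι h2
      refine he (u * s) (Submonoid.mul_mem p.primeCompl hu hs) (u * a) ?_
      rw [map_mul, map_mul, ← hue]; ring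
    obtain ⟨c', hc'⟩ := Submodule.mem_span_singleton.mp
      ((IsSimpleModule.span_singleton_eq_top A' hne).ge (Submodule.mem_top (x := Submodule.Quotient.mk (ι b))))
    rw [← Submodule.Quotient.mk_smul, Submodule.Quotient.eq] at hc'
    obtain ⟨z, hz⟩ := hc'
    obtain ⟨s, hs, a, ha⟩ := hsurjA z
    obtain ⟨s', hs', c, hc⟩ := hsurjA c'
    have h2 : ι (algebraMap A B (s * s') * b) =
        ι (algebraMap A B (-(s' * a)) + algebraMap A B (s * c) * e) := by
      rw [map_mul ι, map_add ι, map_mul ι, hιA, hιA, hιA]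
      simp only [map_neg, map_mul, ← ha, ← hc]
      rw [show algebraMap A' C z = c' • ι e - ι b from hz, Algebra.smul_def]
      ring
    obtain ⟨u, hu, hue⟩ := hι h2
    refine ⟨u * (s * s'), Submonoid.mul_mem p.primeCompl hu (Submonoid.mul_mem p.primeCompl hs hs'),
      u * -(s' * a), u * (s * c), ?_⟩
    rw [map_mul, mul_assoc, hue, map_mul _ u (-(s' * a)), map_mul _ u (s * c)]
    ring

variable (k : Type u) [Field k] [IsAlgClosed k] {X X' : Scheme.{u}}
  [X.Over (Spec (CommRingCat.of k))] [LocallyOfFiniteType (X ↘ Spec (CommRingCat.of k))]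
  (hX : Curv2.AtWorstNodal k X) [IsReduced X] [IsLocallyNoetherian X]
  (hpure : ∀ Z ∈ irreducibleComponents (X : Type u), topologicalKrullDim Z = 1)
  (ν : X' ⟶ X) [IsFinite ν] (hX' : Pi1.IsNormalScheme X') {U : X.Opens} (hU : Dense (U : Set X))
  (hU' : Dense ((ν ⁻¹ᵁ U : X'.Opens) : Set X')) (hνU : IsIso (ν ∣_ U))

include hX' in
theorem norm_localization {V : X.Opens} (hV : IsAffineOpen V) (M : Ideal Γ(X', ν ⁻¹ᵁ V)) [M.IsMaximal] :
    IsDomain (Localization.AtPrime M) ∧ IsIntegrallyClosed (Localization.AtPrime M) := by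
  let y : PrimeSpectrum Γ(X', ν ⁻¹ᵁ V) := ⟨M, inferInstance⟩
  have hV' : IsAffineOpen (ν ⁻¹ᵁ V) := hV.preimage ν
  have hy : hV'.fromSpec y ∈ ν ⁻¹ᵁ V := hV'.range_fromSpec.le ⟨y, rfl⟩
  letI := TopCat.Presheaf.algebra_section_stalk X'.presheaf (⟨hV'.fromSpec y, hy⟩ : (ν ⁻¹ᵁ V : X'.Opens))
  haveI : IsLocalization.AtPrime (X'.presheaf.stalk (hV'.fromSpec y)) M := hV'.isLocalization_stalk' y hy
  obtain ⟨hd, hn⟩ := hX' (hV'.fromSpec y)
  let e := (IsLocalization.algEquiv M.primeCompl (X'.presheaf.stalk (hV'.fromSpec y))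
    (Localization.AtPrime M)).toRingEquiv
  haveI := hd
  haveI := hn
  exact ⟨e.symm.injective.isDomain _, IsIntegrallyClosed.of_equiv e⟩

include hX' hU hU' hνU in
/-- The conductor of a chart is not contained in the prime of a regular point. -/
theorem exists_notMem_of_regular {V : X.Opens} (hV : IsAffineOpen V) (x : V)
    (hreg : IsRegularLocalRing (X.presheaf.stalk (x : X))) :
    letI := (ν.app V).hom.toAlgebra
    ∃ s ∉ (hV.primeIdealOf x).asIdeal, ν.app V s ∈ H06SNPush.cond Γ(X, V) Γ(X', ν ⁻¹ᵁ V) := by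
  letI : Algebra Γ(X, V) Γ(X', ν ⁻¹ᵁ V) := (ν.app V).hom.toAlgebra
  obtain ⟨hfin, hinj, t, ht, htB, hden⟩ := H06NormCurve.exists_chart ν hX' hU hU' hνU hV
  haveI : Module.Finite Γ(X, V) Γ(X', ν ⁻¹ᵁ V) := hfin
  letI := TopCat.Presheaf.algebra_section_stalk X.presheaf x
  haveI := hV.isLocalization_stalk x
  haveI := hreg
  haveI := H4Depth.isDomain_of_isRegularLocalRing (X.presheaf.stalk (x : X))
  haveI := Groth.Agent.S9829.result (X.presheaf.stalk (x : X))
  exact H06SNPush.exists_notMem_cond hinj ht htB hden _ (X.presheaf.stalk (x : X))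

theorem isMaximal_primeIdealOf {V : X.Opens} (hV : IsAffineOpen V) (x : V) (hx : IsClosed ({(x : X)} : Set X)) :
    (hV.primeIdealOf x).asIdeal.IsMaximal := by
  rw [← PrimeSpectrum.isClosed_singleton_iff_isMaximal]
  have h := hx.preimage hV.fromSpec.continuous
  rwa [show hV.fromSpec ⁻¹' {(x : X)} = {hV.primeIdealOf x} from by
    ext q
    refine ⟨fun h => hV.fromSpec.isOpenEmbedding.injective (h.trans (hV.fromSpec_primeIdealOf x).symm), ?_⟩
    rintro rfl
    exact hV.fromSpec_primeIdealOf x] at h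

include hX' hU hU' hνU hpure in
/-- The facts at a node. -/
theorem node_at {V : X.Opens} (hV : IsAffineOpen V) (x : V) (hx : Curv2.IsNode k X (x : X)) :
    letI := (ν.app V).hom.toAlgebra
    let p := (hV.primeIdealOf x).asIdeal
    (∀ q ∈ p, ∀ b : Γ(X', ν ⁻¹ᵁ V), ∃ s ∉ p, ∃ a : Γ(X, V), ν.app V (s * q) * b = ν.app V a) ∧
    (∃ M₁ M₂ : Ideal Γ(X', ν ⁻¹ᵁ V), M₁.IsMaximal ∧ M₂.IsMaximal ∧ M₁ ≠ M₂ ∧
      M₁.comap (ν.app V).hom = p ∧ M₂.comap (ν.app V).hom = p) ∧
    (∀ e : Γ(X', ν ⁻¹ᵁ V), (∀ s ∉ p, ∀ a : Γ(X, V), ν.app V s * e ≠ ν.app V a) →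
      ∀ b, ∃ s ∉ p, ∃ a c : Γ(X, V), ν.app V s * b = ν.app V a + ν.app V c * e) := by
  letI : Algebra Γ(X, V) Γ(X', ν ⁻¹ᵁ V) := (ν.app V).hom.toAlgebra
  obtain ⟨hfin, hinj, t, ht, htB, hden⟩ := H06NormCurve.exists_chart ν hX' hU hU' hνU hV
  haveI : Module.Finite Γ(X, V) Γ(X', ν ⁻¹ᵁ V) := hfin
  haveI := isMaximal_primeIdealOf hV x hx.1
  letI := TopCat.Presheaf.algebra_section_stalk X.presheaf x
  haveI := hV.isLocalization_stalk x
  have hN := H06DeltaBC.isNagata_stalk k (X ↘ (Spec (CommRingCat.of k))) (x : X)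
  haveI : IsNoetherianRing (X.presheaf.stalk (x : X)) := hN.1
  obtain ⟨e⟩ := H06NormCurve.exists_multicross hx
  have h2 := (H06Wedge.invariants_of_completion_multicross (AlgebraicClosure k) (X.presheaf.stalk (x : X))
    (H06Wedge.ringKrullDim_stalk_of_pure_one (K := k) hpure hx.1) hN 2 e).1
  rw [H06Wedge.numBranches_eq_card] at h2
  exact node_facts hinj ht htB hden (fun M _ => norm_localization ν hX' hV M) _ (X.presheaf.stalk (x : X))
    (H06NormCurve.deltaInv_of_isNode hpure hx) (h2.trans Nat.cast_ofNat)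

include hX' hU hU' hνU hpure in
/-- A node is not off the conductor. -/
theorem mem_of_node {V : X.Opens} (hV : IsAffineOpen V) (x : V) (hx : Curv2.IsNode k X (x : X)) {s : Γ(X, V)}
    (hs : letI := (ν.app V).hom.toAlgebra; ν.app V s ∈ H06SNPush.cond Γ(X, V) Γ(X', ν ⁻¹ᵁ V)) :
    s ∈ (hV.primeIdealOf x).asIdeal := by
  letI : Algebra Γ(X, V) Γ(X', ν ⁻¹ᵁ V) := (ν.app V).hom.toAlgebra
  obtain ⟨-, ⟨M₁, M₂, h₁, h₂, hne, hc₁, hc₂⟩, -⟩ := node_at k hpure ν hX' hU hU' hνU hV x hx
  obtain ⟨b, hb₁, hb₂⟩ := SetLike.not_le_iff_exists.mp fun h => hne (h₁.eq_of_le h₂.ne_top h)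
  obtain ⟨a, ha⟩ := H06SNPush.mem_cond.mp hs b
  by_contra hsp
  have hap : a ∈ (hV.primeIdealOf x).asIdeal := by
    rw [← hc₁]
    show ν.app V a ∈ M₁
    exact (show algebraMap Γ(X, V) Γ(X', ν ⁻¹ᵁ V) a = ν.app V s * b from ha) ▸ Ideal.mul_mem_left _ _ hb₁
  rw [← hc₂] at hap hsp
  have h' : ν.app V s * b ∈ M₂ := (show algebraMap Γ(X, V) Γ(X', ν ⁻¹ᵁ V) a = ν.app V s * b from ha) ▸ hap
  exact (h₂.isPrime.mem_or_mem h').elim hsp hb₂

include hX hX' hU hU' hνU hpure in
/-- Around every closed point there is a chart with no other singular point. -/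
theorem exists_small (x : X) (hx : IsClosed ({x} : Set X)) :
    ∃ V : X.Opens, IsAffineOpen V ∧ x ∈ V ∧
      ∀ y ∈ V, IsClosed ({y} : Set X) → y ≠ x → IsRegularLocalRing (X.presheaf.stalk y) := by
  classical
  obtain ⟨W, hW, hxW, -⟩ := exists_isAffineOpen_mem_and_subset (show x ∈ (⊤ : X.Opens) from trivial)
  letI : Algebra Γ(X, W) Γ(X', ν ⁻¹ᵁ W) := (ν.app W).hom.toAlgebra
  obtain ⟨hfin, -, t, ht, -, hden⟩ := H06NormCurve.exists_chart ν hX' hU hU' hνU hW
  haveI : Module.Finite Γ(X, W) Γ(X', ν ⁻¹ᵁ W) := hfin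
  haveI : IsNoetherianRing Γ(X, W) := IsLocallyNoetherian.component_noetherian ⟨W, hW⟩
  obtain ⟨N, hN⟩ := exists_pow_mem_cond hden
  let p := hW.primeIdealOf ⟨x, hxW⟩
  have hp : p.asIdeal.IsMaximal := by
    rw [← PrimeSpectrum.isClosed_singleton_iff_isMaximal]
    have h := hx.preimage hW.fromSpec.continuous
    rwa [show hW.fromSpec ⁻¹' {x} = {p} from by
      ext q
      refine ⟨fun h => hW.fromSpec.isOpenEmbedding.injective (h.trans (hW.fromSpec_primeIdealOf ⟨x, hxW⟩).symm), ?_⟩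
      rintro rfl
      exact hW.fromSpec_primeIdealOf ⟨x, hxW⟩] at h
  -- the primes containing `t` are finitely many
  have hdim : ringKrullDim Γ(X, W) ≤ 1 := by
    rw [← PrimeSpectrum.topologicalKrullDim_eq_ringKrullDim]
    exact hW.fromSpec.isOpenEmbedding.isInducing.topologicalKrullDim_le.trans
      (H06SNPush.topologicalKrullDim_le_one_of_components fun Z hZ => (hpure Z hZ).le)
  have hmax : ∀ Q : Ideal Γ(X, W), Q.IsPrime → t ∈ Q → Q ∈ (Ideal.span {t}).minimalPrimes := by
    intro Q hQ htQ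
    haveI := hQ
    obtain ⟨Q₁, hQ₁, hQ₁Q⟩ := Ideal.exists_minimalPrimes_le
      (show Ideal.span {t} ≤ Q from (Ideal.span_singleton_le_iff_mem _).mpr htQ)
    haveI := hQ₁.1.1
    by_contra hne
    obtain ⟨Q₀, hQ₀, hQ₀Q⟩ := Ideal.exists_minimalPrimes_le (I := (⊥ : Ideal Γ(X, W))) (J := Q₁) bot_le
    haveI : Ideal.IsPrime Q₀ := hQ₀.1.1
    have h1 : (⟨Q₀, inferInstance⟩ : PrimeSpectrum Γ(X, W)) < ⟨Q₁, inferInstance⟩ :=
      lt_of_le_of_ne hQ₀Q fun h => by
        have h' : Q₀ = Q₁ := congrArg PrimeSpectrum.asIdeal h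
        exact Set.disjoint_left.mp (Ideal.disjoint_nonZeroDivisors_of_mem_minimalPrimes hQ₀)
          (h' ▸ hQ₁.1.2 (Ideal.mem_span_singleton_self t)) ht
    have h2 : (⟨Q₁, inferInstance⟩ : PrimeSpectrum Γ(X, W)) < ⟨Q, hQ⟩ :=
      lt_of_le_of_ne hQ₁Q fun h => by
        have h' : Q₁ = Q := congrArg PrimeSpectrum.asIdeal h
        exact hne (h' ▸ hQ₁)
    let l : LTSeries (PrimeSpectrum Γ(X, W)) :=
      ((RelSeries.singleton _ ⟨Q₀, inferInstance⟩).snoc ⟨Q₁, inferInstance⟩ h1).snoc ⟨Q, hQ⟩ (by simpa using h2)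
    have h3 := (Order.LTSeries.length_le_krullDim l).trans hdim
    simp [l] at h3
  have hfinS := Ideal.finite_minimalPrimes_of_isNoetherianRing Γ(X, W) (Ideal.span {t})
  have hchoice : ∀ Q ∈ hfinS.toFinset.erase p.asIdeal, ∃ c ∈ Q, c ∉ p.asIdeal := fun Q hQ => by
    rw [Finset.mem_erase, hfinS.mem_toFinset] at hQ
    by_contra hc
    push_neg at hc
    haveI := hQ.2.1.1
    obtain ⟨Mx, hMx, hle⟩ := Ideal.exists_le_maximal Q (Ideal.IsPrime.ne_top inferInstance)
    have h1 := hmax Mx hMx.isPrime (hle (hQ.2.1.2 (Ideal.mem_span_singleton_self t)))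
    have h2 : Mx ≤ Q := h1.2 hQ.2.1 hle
    exact hQ.1 ((le_antisymm hle h2 ▸ hMx : Q.IsMaximal).eq_of_le hp.ne_top hc)
  choose! c hc hcp using hchoice
  let f := ∏ Q ∈ hfinS.toFinset.erase p.asIdeal, c Q
  have hf : f ∉ p.asIdeal := fun h => by
    obtain ⟨Q, hQ, hQp⟩ := (p.isPrime.prod_mem_iff).1 h
    exact hcp Q hQ hQp
  refine ⟨X.basicOpen f, hW.basicOpen f, ?_, fun y hy hyc hyx => ?_⟩
  · rw [← hW.fromSpec_image_basicOpen f]
    exact ⟨p, hf, hW.fromSpec_primeIdealOf ⟨x, hxW⟩⟩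
  by_contra hreg
  have hyW : y ∈ W := X.basicOpen_le f hy
  let Q := hW.primeIdealOf ⟨y, hyW⟩
  have hfQ : f ∉ Q.asIdeal := by
    rw [← hW.fromSpec_image_basicOpen f] at hy
    obtain ⟨Q', hQ', hy'⟩ := hy
    rwa [show Q' = Q from hW.fromSpec.isOpenEmbedding.injective (hy'.trans (hW.fromSpec_primeIdealOf ⟨y, hyW⟩).symm)] at hQ'
  have htQ : t ∈ Q.asIdeal := by
    by_contra h
    rcases hX y hyc with hsm | hnode
    · exact hreg (H06NormCurve.isRegularLocalRing_of_smooth_nhd (k := k) hsm)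
    · exact h (Q.isPrime.mem_of_pow_mem N (mem_of_node k hpure ν hX' hU hU' hνU hW ⟨y, hyW⟩ hnode hN))
  have hQne : Q.asIdeal ≠ p.asIdeal := fun h => hyx (by
    have := congrArg hW.fromSpec (PrimeSpectrum.ext h)
    rwa [hW.fromSpec_primeIdealOf, hW.fromSpec_primeIdealOf] at this)
  have hmem : Q.asIdeal ∈ hfinS.toFinset.erase p.asIdeal :=
    Finset.mem_erase.mpr ⟨hQne, hfinS.mem_toFinset.mpr (hmax _ Q.isPrime htQ)⟩
  exact hfQ (Q.asIdeal.prod_mem hmem (hc _ hmem))

end Groth.Agent.H06NodeDer
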