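import Groth.Agent.H06NodeDer.Algebra
import Groth.Agent.H06NormCurve.Chart
import Groth.Prelude.Def_Omega3

/-!
# Extending derivations along a birational finite morphism
-/

set_option autoImplicit false
set_option linter.style.haveILetI false

universe u

open CategoryTheory AlgebraicGeometry TopologicalSpace Opposite

namespace Groth.Agent.H06NodeDer

variable {X X' S : Scheme.{u}}

/-- Restriction of functions. -/
noncomputable abbrev res {V W : X.Opens} (h : V ≤ W) (a : Γ(X, W)) : Γ(X, V) :=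
  (X.presheaf.map (homOfLE h).op).hom a

theorem res_res {U V W : X.Opens} (h : U ≤ V) (h' : V ≤ W) (a : Γ(X, W)) :
    res h (res h' a) = res (h.trans h') a := by
  change (X.presheaf.map _ ≫ X.presheaf.map _).hom a = _
  rw [← X.presheaf.map_comp]; rfl

theorem res_self {U : X.Opens} (a : Γ(X, U)) : res (le_refl U) a = a := by
  change (X.presheaf.map (𝟙 _)).hom a = a
  rw [X.presheaf.map_id]; rfl

theorem app_res (ν : X' ⟶ X) {V W : X.Opens} (h : V ≤ W) (a : Γ(X, W)) :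
    ν.app V (res h a) = res (ν.preimage_mono h) (ν.app W a) :=
  congr($(ν.naturality (homOfLE h).op) a)

/-- A derivation of the structure sheaf, valued in functions. -/
noncomputable def dfn {f : X ⟶ S} (D : OmegaSh.Der f (Coh.structureModule X)) (V : X.Opens) :
    Γ(X, V) →+ Γ(X, V) :=
  (OmegaSh.fnSect X V).comp (D.app V)

variable {f : X ⟶ S} (D : OmegaSh.Der f (Coh.structureModule X))

theorem dfn_mul (V : X.Opens) (a b : Γ(X, V)) : dfn D V (a * b) = a * dfn D V b + b * dfn D V a :=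
  D.d_mul (X := op V) a b

theorem dfn_res {V W : X.Opens} (h : V ≤ W) (a : Γ(X, W)) : dfn D V (res h a) = res h (dfn D W a) :=
  D.d_map (homOfLE h).op a

theorem dfn_app (V : S.Opens) (c : Γ(S, V)) : dfn D (f ⁻¹ᵁ V) (f.app V c) = 0 :=
  D.d_app (X := op V) c

/-- `z` is the value at `s` of the extension of `D` to `X'`. -/
def Rel (ν : X' ⟶ X) (U : X.Opens) (W : X'.Opens) (s z : Γ(X', W)) : Prop :=
  ∀ (O : X.Opens), O ≤ U → ∀ (h : ν ⁻¹ᵁ O ≤ W) (a : Γ(X, O)),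
    res h s = ν.app O a → res h z = ν.app O (dfn D O a)

variable (ν : X' ⟶ X) {U : X.Opens} (hνU : IsIso (ν ∣_ U))

include hνU

theorem bijective_app {O : X.Opens} (h : O ≤ U) : Function.Bijective (ν.app O) := by
  haveI := H06NormCurve.isIso_app_of_le ν hνU h
  exact ConcreteCategory.bijective_of_isIso (ν.app O)

theorem exists_preimage_eq {V : X.Opens} (hV : V ≤ U) (x : X) (hx : x ∈ V) : ∃ y : X', ν y = x := by
  haveI := hνU
  obtain ⟨w, hw⟩ := (ν ∣_ U).homeomorph.surjective (⟨x, hV hx⟩ : U.toScheme)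
  refine ⟨w.1, ?_⟩
  exact (morphismRestrict_base_coe ν U w).symm.trans (congrArg Subtype.val hw)

theorem le_of_preimage_le {O V : X.Opens} (hO : O ≤ U) (h : ν ⁻¹ᵁ O ≤ ν ⁻¹ᵁ V) : O ≤ V := fun x hx => by
  obtain ⟨y, rfl⟩ := exists_preimage_eq ν hνU hO x hx
  exact h hx

theorem exists_open [IsFinite ν] (W : X'.Opens) : ∃ O : X.Opens, O ≤ U ∧ ν ⁻¹ᵁ O = W ⊓ ν ⁻¹ᵁ U := by
  haveI := hνU
  have hcl : IsClosed (ν '' (W : Set X')ᶜ) := ν.isClosedMap _ W.2.isClosed_compl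
  refine ⟨⟨(U : Set X) ∩ (ν '' (W : Set X')ᶜ)ᶜ, U.2.inter hcl.isOpen_compl⟩, fun x hx => hx.1, ?_⟩
  refine Opens.ext (Set.ext fun y => ⟨fun ⟨hy, hy'⟩ => ⟨by_contra fun h => hy' ⟨y, h, rfl⟩, hy⟩, fun ⟨hy, hy'⟩ => ⟨hy', ?_⟩⟩)
  rintro ⟨y', hy'W, he⟩
  have hy'U : y' ∈ ν ⁻¹ᵁ U := by
    show ν y' ∈ U
    rw [he]; exact hy'
  have h : (⟨y', hy'U⟩ : (ν ⁻¹ᵁ U).toScheme) = ⟨y, hy'⟩ :=
    (ν ∣_ U).homeomorph.injective (Subtype.ext ((morphismRestrict_base_coe ν U _).trans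
      (he.trans (morphismRestrict_base_coe ν U (⟨y, hy'⟩ : (ν ⁻¹ᵁ U).toScheme)).symm)))
  obtain rfl : y' = y := congrArg Subtype.val h
  exact hy'W hy

variable [IsFinite ν] [IsReduced X'] (hU' : Dense ((ν ⁻¹ᵁ U : X'.Opens) : Set X'))

include hU'

theorem eq_of_res {W : X'.Opens} {z z' : Γ(X', W)} {O : X'.Opens} (hO : O ≤ W) (hWO : W ⊓ ν ⁻¹ᵁ U ≤ O)
    (h : res hO z = res hO z') : z = z' := by
  rw [← sub_eq_zero]
  refine (basicOpen_eq_bot_iff _).1 ?_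
  by_contra hne
  obtain ⟨y, hy, hyU⟩ := hU'.inter_open_nonempty (X'.basicOpen (z - z') : Set X') (X'.basicOpen (z - z')).2
    ((Opens.ne_bot_iff_nonempty _).1 hne)
  have hyO : y ∈ O := hWO ⟨X'.basicOpen_le _ hy, hyU⟩
  have h1 : X'.basicOpen (res hO (z - z')) = ⊥ := by
    rw [res, map_sub, show (X'.presheaf.map (homOfLE hO).op).hom z = (X'.presheaf.map (homOfLE hO).op).hom z' from h,
      sub_self, Scheme.basicOpen_zero]
  rw [res, Scheme.basicOpen_res] at h1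
  have : y ∈ O ⊓ X'.basicOpen (z - z') := ⟨hyO, hy⟩
  rw [h1] at this
  exact this

variable {D}

theorem Rel.unique {W : X'.Opens} {s z z' : Γ(X', W)} (h : Rel D ν U W s z) (h' : Rel D ν U W s z') : z = z' := by
  obtain ⟨O, hO, hOW⟩ := exists_open ν hνU W
  have hle : ν ⁻¹ᵁ O ≤ W := hOW.le.trans inf_le_left
  obtain ⟨a, ha⟩ := (bijective_app ν hνU hO).2 (res hle s)
  exact eq_of_res ν hνU hU' hle hOW.ge ((h O hO hle a ha.symm).trans (h' O hO hle a ha.symm).symm)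

omit hνU hU' [IsReduced X'] [IsFinite ν] in
theorem Rel.res {W W' : X'.Opens} (hW : W' ≤ W) {s z : Γ(X', W)} (h : Rel D ν U W s z) :
    Rel D ν U W' (H06NodeDer.res hW s) (H06NodeDer.res hW z) := fun O hO hle a ha => by
  rw [res_res] at ha ⊢
  exact h O hO _ a ha

omit hU' [IsReduced X'] in
theorem Rel.glue {W : X'.Opens} {ι : Type u} (C : ι → X'.Opens) (hC : ∀ i, C i ≤ W) (hcov : W ≤ iSup C)
    {s z : Γ(X', W)} (h : ∀ i, Rel D ν U (C i) (H06NodeDer.res (hC i) s) (H06NodeDer.res (hC i) z)) :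
    Rel D ν U W s z := fun O hO hle a ha => by
  choose P hP hPC using fun i => exists_open ν hνU (C i)
  refine TopCat.Sheaf.eq_of_locally_eq' ⟨X'.presheaf, X'.IsSheaf⟩ (fun i => ν ⁻¹ᵁ (O ⊓ P i)) (ν ⁻¹ᵁ O)
    (fun i => homOfLE (ν.preimage_mono inf_le_left)) ?_ _ _ fun i => ?_
  · intro y hy
    obtain ⟨i, hi⟩ := Opens.mem_iSup.mp (hcov (hle hy))
    exact Opens.mem_iSup.mpr ⟨i, hy, (hPC i).ge ⟨hi, hO hy⟩⟩
  · have h1 : ν ⁻¹ᵁ (O ⊓ P i) ≤ C i := fun y hy => ((hPC i).le hy.2).1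
    have h2 := h i (O ⊓ P i) (inf_le_left.trans hO) h1 (H06NodeDer.res inf_le_left a) (by
      rw [res_res, app_res, ← ha, res_res])
    rw [res_res, dfn_res, app_res] at h2
    show H06NodeDer.res (ν.preimage_mono inf_le_left) (H06NodeDer.res hle z) = H06NodeDer.res _ _
    rw [res_res]
    exact h2

omit hU' [IsReduced X'] [IsFinite ν] in
theorem Rel.add {W : X'.Opens} {s t z w : Γ(X', W)} (h : Rel D ν U W s z) (h' : Rel D ν U W t w) :
    Rel D ν U W (s + t) (z + w) := fun O hO hle a ha => by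
  obtain ⟨a₁, ha₁⟩ := (bijective_app ν hνU hO).2 (H06NodeDer.res hle s)
  obtain ⟨a₂, ha₂⟩ := (bijective_app ν hνU hO).2 (H06NodeDer.res hle t)
  have hadd : a = a₁ + a₂ := (bijective_app ν hνU hO).1 (by
    rw [map_add, ha₁, ha₂, ← ha]; simp only [H06NodeDer.res, map_add])
  rw [hadd, map_add, map_add, ← h O hO hle a₁ ha₁.symm, ← h' O hO hle a₂ ha₂.symm]
  simp only [H06NodeDer.res, map_add]

omit hU' [IsReduced X'] [IsFinite ν] in
theorem Rel.mul {W : X'.Opens} {s t z w : Γ(X', W)} (h : Rel D ν U W s z) (h' : Rel D ν U W t w) :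
    Rel D ν U W (s * t) (s * w + t * z) := fun O hO hle a ha => by
  obtain ⟨a₁, ha₁⟩ := (bijective_app ν hνU hO).2 (H06NodeDer.res hle s)
  obtain ⟨a₂, ha₂⟩ := (bijective_app ν hνU hO).2 (H06NodeDer.res hle t)
  have hmul : a = a₁ * a₂ := (bijective_app ν hνU hO).1 (by
    rw [map_mul, ha₁, ha₂, ← ha]; simp only [H06NodeDer.res, map_mul])
  rw [hmul, dfn_mul, map_add, map_mul, map_mul, ← h O hO hle a₁ ha₁.symm, ← h' O hO hle a₂ ha₂.symm, ha₁, ha₂]
  simp only [H06NodeDer.res, map_mul, map_add]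

omit hU' [IsReduced X'] [IsFinite ν] in
theorem Rel.div {W : X'.Opens} {s t v w : Γ(X', W)} (u : (Γ(X', W) : Type u)) (hu : t * u = 1)
    (h : Rel D ν U W (s * t) v) (h' : Rel D ν U W t w) : Rel D ν U W s ((v - s * w) * u) := fun O hO hle a ha => by
  obtain ⟨a₂, ha₂⟩ := (bijective_app ν hνU hO).2 (H06NodeDer.res hle t)
  have h1 := h O hO hle (a * a₂) (by rw [map_mul, ← ha, ha₂]; simp only [H06NodeDer.res, map_mul])
  rw [dfn_mul, map_add, map_mul, map_mul, ← h' O hO hle a₂ ha₂.symm, ha₂, ← ha] at h1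
  have hu' : H06NodeDer.res hle t * H06NodeDer.res hle u = 1 := by
    rw [H06NodeDer.res, ← map_mul, hu, map_one]
  simp only [H06NodeDer.res, map_mul, map_sub] at h1 hu' ⊢
  linear_combination (H06NodeDer.res hle u) * h1 + (ν.app O (dfn D O a)) * hu'

omit [IsFinite ν] hU' [IsReduced X'] in
theorem rel_app {V : X.Opens} (a : Γ(X, V)) : Rel D ν U (ν ⁻¹ᵁ V) (ν.app V a) (ν.app V (dfn D V a)) := by
  intro O hO hle b hb
  have hOV : O ≤ V := le_of_preimage_le ν hνU hO hle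
  have he : b = H06NodeDer.res hOV a := (bijective_app ν hνU hO).1 (by rw [app_res]; exact hb.symm)
  rw [he, dfn_res, app_res]

omit [IsFinite ν] hU' [IsReduced X'] in
theorem rel_of_isExt {V : X.Opens} (hV : IsAffineOpen V) [IsAffineHom ν] {b z : Γ(X', ν ⁻¹ᵁ V)}
    (hz : letI := (ν.app V).hom.toAlgebra; IsExt (fun a => dfn D V a) b z) : Rel D ν U (ν ⁻¹ᵁ V) b z := by
  intro O hO hle a ha
  have hOV : O ≤ V := le_of_preimage_le ν hνU hO hle
  let I := {g : Γ(X, V) // X.basicOpen g ≤ O}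
  refine TopCat.Sheaf.eq_of_locally_eq' ⟨X'.presheaf, X'.IsSheaf⟩ (fun g : I => ν ⁻¹ᵁ X.basicOpen g.1) (ν ⁻¹ᵁ O)
    (fun g => homOfLE (ν.preimage_mono g.2)) ?_ _ _ fun ⟨g, hg⟩ => ?_
  · intro y hy
    obtain ⟨g, hg, hy'⟩ := hV.exists_basicOpen_le ⟨ν y, hy⟩ (hOV hy)
    exact Opens.mem_iSup.mpr ⟨⟨g, hg⟩, hy'⟩
  haveI := hV.isLocalization_basicOpen g
  obtain ⟨⟨a₁, ⟨_, m, rfl⟩⟩, ha₁'⟩ := IsLocalization.surj (Submonoid.powers g) (H06NodeDer.res hg a)
  have ha₁ : H06NodeDer.res hg a * H06NodeDer.res (X.basicOpen_le g) (g ^ m) =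
      H06NodeDer.res (X.basicOpen_le g) a₁ := ha₁'
  letI : Algebra Γ(X', ν ⁻¹ᵁ V) Γ(X', ν ⁻¹ᵁ X.basicOpen g) :=
    (X'.presheaf.map (homOfLE (ν.preimage_mono (X.basicOpen_le g))).op).hom.toAlgebra
  haveI : IsLocalization.Away (ν.app V g) Γ(X', ν ⁻¹ᵁ X.basicOpen g) :=
    (hV.preimage ν).isLocalization_of_eq_basicOpen (ν.app V g)
      (homOfLE (ν.preimage_mono (X.basicOpen_le g))) (Scheme.preimage_basicOpen ν g)
  have hle' := ν.preimage_mono (X.basicOpen_le g)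
  have hbg : H06NodeDer.res hle' b = ν.app (X.basicOpen g) (H06NodeDer.res hg a) := by
    rw [app_res, ← ha, res_res]
  have he : algebraMap Γ(X', ν ⁻¹ᵁ V) Γ(X', ν ⁻¹ᵁ X.basicOpen g) (ν.app V g ^ m * b) =
      algebraMap _ _ (ν.app V a₁) := by
    show H06NodeDer.res hle' (ν.app V g ^ m * b) = H06NodeDer.res hle' (ν.app V a₁)
    rw [← app_res ν (X.basicOpen_le g), ← ha₁, map_mul, ← hbg, app_res]
    simp only [H06NodeDer.res, map_mul, map_pow]
    ring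
  obtain ⟨⟨_, N, rfl⟩, hN⟩ := (IsLocalization.eq_iff_exists (Submonoid.powers (ν.app V g)) _).mp he
  have h2 := hz (g ^ (N + m)) (g ^ N * a₁) (by
    show ν.app V (g ^ (N + m)) * b = ν.app V (g ^ N * a₁)
    rw [map_pow, map_mul, map_pow, pow_add, mul_assoc]
    exact hN)
  change ν.app V (g ^ (N + m)) * z + b * ν.app V (dfn D V (g ^ (N + m))) = ν.app V (dfn D V (g ^ N * a₁)) at h2
  have h3 := congrArg (H06NodeDer.res hle') h2
  simp only [H06NodeDer.res, map_add, map_mul] at h3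
  have hr : ∀ x, (X'.presheaf.map (homOfLE hle').op).hom (ν.app V x) =
      ν.app (X.basicOpen g) (H06NodeDer.res (X.basicOpen_le g) x) := fun x => (app_res ν _ x).symm
  rw [hr, hr, hr, ← dfn_res, ← dfn_res] at h3
  have hc : H06NodeDer.res (X.basicOpen_le g) (g ^ N * a₁) =
      H06NodeDer.res (X.basicOpen_le g) (g ^ (N + m)) * H06NodeDer.res hg a := by
    simp only [H06NodeDer.res, map_mul, pow_add] at ha₁ ⊢
    rw [← ha₁]; ring
  rw [show (X'.presheaf.map (homOfLE hle').op).hom b = ν.app (X.basicOpen g) (H06NodeDer.res hg a) from hbg,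
    hc, dfn_mul, map_add, map_mul, map_mul] at h3
  have hunit : IsUnit (ν.app (X.basicOpen g) (H06NodeDer.res (X.basicOpen_le g) (g ^ (N + m)))) :=
    IsUnit.map (ν.app (X.basicOpen g)).hom (IsLocalization.map_units Γ(X, X.basicOpen g)
      (⟨g ^ (N + m), N + m, rfl⟩ : Submonoid.powers g))
  show H06NodeDer.res (ν.preimage_mono hg) (H06NodeDer.res hle z) = H06NodeDer.res _ (ν.app O (dfn D O a))
  rw [res_res, ← app_res ν hg, ← dfn_res D hg]
  exact hunit.mul_left_cancel (add_right_cancel h3)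

theorem exists_rel [IsAffineHom ν]
    (hchart : ∀ (x : X), ∃ V : X.Opens, IsAffineOpen V ∧ x ∈ V ∧ ∀ b : Γ(X', ν ⁻¹ᵁ V),
      letI := (ν.app V).hom.toAlgebra; ∃ z, IsExt (fun a => dfn D V a) b z)
    (W : X'.Opens) (s : Γ(X', W)) : ∃ z, Rel D ν U W s z := by
  have hloc : ∀ y : W, ∃ (W' : X'.Opens) (hW' : W' ≤ W), (y : X') ∈ W' ∧
      ∃ z, Rel D ν U W' (H06NodeDer.res hW' s) z := by
    rintro ⟨y, hy⟩
    obtain ⟨V, hV, hyV, hext⟩ := hchart (ν y)
    obtain ⟨g, hg, hyg⟩ := (hV.preimage ν).exists_basicOpen_le ⟨y, hy⟩ hyV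
    refine ⟨X'.basicOpen g, hg, hyg, ?_⟩
    haveI := (hV.preimage ν).isLocalization_basicOpen g
    obtain ⟨⟨b, ⟨_, m, rfl⟩⟩, hb'⟩ := IsLocalization.surj (Submonoid.powers g) (H06NodeDer.res hg s)
    have hb : H06NodeDer.res hg s * H06NodeDer.res (X'.basicOpen_le g) (g ^ m) =
        H06NodeDer.res (X'.basicOpen_le g) b := hb'
    obtain ⟨zb, hzb⟩ := hext b
    obtain ⟨zg, hzg⟩ := hext (g ^ m)
    have hu : IsUnit (H06NodeDer.res (X'.basicOpen_le g) (g ^ m)) :=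
      IsLocalization.map_units Γ(X', X'.basicOpen g) (⟨g ^ m, m, rfl⟩ : Submonoid.powers g)
    obtain ⟨u, hu⟩ := hu.exists_right_inv
    exact ⟨_, Rel.div ν hνU u hu (hb ▸ (rel_of_isExt ν hνU hV hzb).res ν (X'.basicOpen_le g))
      ((rel_of_isExt ν hνU hV hzg).res ν (X'.basicOpen_le g))⟩
  choose C hC hyC z hz using hloc
  have hcov : W ≤ iSup C := fun y hy => Opens.mem_iSup.mpr ⟨⟨y, hy⟩, hyC ⟨y, hy⟩⟩
  obtain ⟨Z, hZ, -⟩ := TopCat.Sheaf.existsUnique_gluing' ⟨X'.presheaf, X'.IsSheaf⟩ C W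
    (fun i => homOfLE (hC i)) hcov z fun i j => by
      refine Rel.unique ν hνU hU' ((hz i).res ν (inf_le_left : C i ⊓ C j ≤ C i)) ?_
      have h := (hz j).res ν (inf_le_right : C i ⊓ C j ≤ C j)
      rw [res_res] at h ⊢
      exact h
  refine ⟨Z, Rel.glue ν hνU C hC hcov fun i => ?_⟩
  rw [show H06NodeDer.res (hC i) Z = z i from hZ i]
  exact hz i

/-- The extension of `D` to `X'`. -/
theorem exists_der [IsAffineHom ν]
    (hchart : ∀ (x : X), ∃ V : X.Opens, IsAffineOpen V ∧ x ∈ V ∧ ∀ b : Γ(X', ν ⁻¹ᵁ V),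
      letI := (ν.app V).hom.toAlgebra; ∃ z, IsExt (fun a => dfn D V a) b z) :
    ∃ D' : OmegaSh.Der (ν ≫ f) (Coh.structureModule X'),
      (∀ (V : X.Opens) (s : Γ(X, V)), dfn D' (ν ⁻¹ᵁ V) (ν.app V s) = ν.app V (dfn D V s)) ∧
      ∀ D'' : OmegaSh.Der (ν ≫ f) (Coh.structureModule X'),
        (∀ (V : X.Opens) (s : Γ(X, V)), dfn D'' (ν ⁻¹ᵁ V) (ν.app V s) = ν.app V (dfn D V s)) → D'' = D' := by
  choose F hF using exists_rel (D := D) ν hνU hU' hchart
  refine ⟨⟨fun {W} => AddMonoidHom.mk' (F W.unop) fun a b =>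
      Rel.unique ν hνU hU' (hF _ _) ((hF _ a).add ν hνU (hF _ b)),
    fun {W} a b => Rel.unique ν hνU hU' (hF W.unop (a * b)) ((hF _ a).mul ν hνU (hF _ b)),
    fun {W W'} g a => Rel.unique ν hνU hU' (hF W'.unop _) ((hF W.unop a).res ν (leOfHom g.unop)),
    fun {V} c => Rel.unique ν hνU hU' (hF _ _) ?_⟩, fun V s => ?_, fun D'' hD'' => ?_⟩
  · have h := rel_app (D := D) ν hνU (f.app V.unop c)
    rw [dfn_app, map_zero] at h
    exact h
  · exact Rel.unique ν hνU hU' (hF _ _) (rel_app ν hνU s)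
  · ext ⟨W⟩ s
    show dfn D'' W s = F W s
    refine Rel.unique ν hνU hU' (fun O hO hle a ha => ?_) (hF W s)
    rw [← dfn_res, ha]
    exact hD'' O a

end Groth.Agent.H06NodeDer
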