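import Groth.Agent.H06NodeDer.Chart
import Groth.Agent.H06NodeDer.Sheaf

/-!
# Derivations of a nodal curve and of its normalization
-/

set_option autoImplicit false
set_option linter.style.haveILetI false

universe u

open CategoryTheory CategoryTheory.Limits AlgebraicGeometry TopologicalSpace Opposite nonZeroDivisors

namespace Groth.Agent.H06NodeDer

variable (k : Type u) [Field k] [IsAlgClosed k] {X X' : Scheme.{u}}
  [X.Over (Spec (CommRingCat.of k))]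

/-- The scalars on an open of `X`. -/
noncomputable def scal (V : X.Opens) : k →+* Γ(X, V) :=
  ((X ↘ Spec (CommRingCat.of k)).appLE ⊤ V le_top).hom.comp (Scheme.ΓSpecIso (CommRingCat.of k)).inv.hom

theorem dfn_scal (D : OmegaSh.Der (X ↘ Spec (CommRingCat.of k)) (Coh.structureModule X)) (V : X.Opens) (c : k) :
    dfn D V (scal k V c) = 0 := by
  have h : scal k V c = res (V := V) (W := (X ↘ Spec (CommRingCat.of k)) ⁻¹ᵁ ⊤) le_top
      ((X ↘ Spec (CommRingCat.of k)).app ⊤ ((Scheme.ΓSpecIso (CommRingCat.of k)).inv c)) := rfl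
  rw [h, dfn_res, dfn_app]
  simp only [res, map_zero]

theorem app_scal (ν : X' ⟶ X) (D' : OmegaSh.Der (ν ≫ (X ↘ Spec (CommRingCat.of k))) (Coh.structureModule X'))
    (V : X.Opens) (c : k) : dfn D' (ν ⁻¹ᵁ V) (ν.app V (scal k V c)) = 0 := by
  have h : scal k V c = res (V := V) (W := (X ↘ Spec (CommRingCat.of k)) ⁻¹ᵁ ⊤) le_top
      ((X ↘ Spec (CommRingCat.of k)).app ⊤ ((Scheme.ΓSpecIso (CommRingCat.of k)).inv c)) := rfl
  rw [h, app_res, dfn_res]
  rw [show dfn D' _ (ν.app _ ((X ↘ Spec (CommRingCat.of k)).app ⊤ ((Scheme.ΓSpecIso (CommRingCat.of k)).inv c))) = 0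
    from dfn_app D' ⊤ _]
  simp only [res, map_zero]

variable [LocallyOfFiniteType (X ↘ Spec (CommRingCat.of k))]
  (hX : Curv2.AtWorstNodal k X) [IsReduced X] [IsLocallyNoetherian X]
  (hpure : ∀ Z ∈ irreducibleComponents (X : Type u), topologicalKrullDim Z = 1)
  (ν : X' ⟶ X) [IsFinite ν] (hX' : Pi1.IsNormalScheme X') {U : X.Opens} (hU : Dense (U : Set X))
  (hU' : Dense ((ν ⁻¹ᵁ U : X'.Opens) : Set X')) (hνU : IsIso (ν ∣_ U))

include hX hpure hX' hU hU' hνU in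
theorem exists_small_le {x : X} (hx : IsClosed ({x} : Set X)) {O : X.Opens} (hxO : x ∈ O) :
    ∃ V : X.Opens, IsAffineOpen V ∧ x ∈ V ∧ V ≤ O ∧
      ∀ y ∈ V, IsClosed ({y} : Set X) → y ≠ x → IsRegularLocalRing (X.presheaf.stalk y) := by
  obtain ⟨V, hV, hxV, hreg⟩ := exists_small k hX hpure ν hX' hU hU' hνU x hx
  obtain ⟨g, hg, hxg⟩ := hV.exists_basicOpen_le (V := O) ⟨x, hxO⟩ hxV
  exact ⟨X.basicOpen g, hV.basicOpen g, hxg, hg, fun y hy => hreg y (X.basicOpen_le g hy)⟩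

theorem fromSpec_comap {V : X.Opens} (hV : IsAffineOpen V) [IsAffineHom ν] (M : PrimeSpectrum Γ(X', ν ⁻¹ᵁ V)) :
    ν ((hV.preimage ν).fromSpec M) = hV.fromSpec (PrimeSpectrum.comap (ν.app V).hom M) := by
  have h : Spec.map (ν.app V) ≫ hV.fromSpec = (hV.preimage ν).fromSpec ≫ ν := by
    rw [Scheme.Hom.app_eq_appLE]
    exact hV.SpecMap_appLE_fromSpec ν (hV.preimage ν) le_rfl
  exact (congr($h M)).symm

theorem isClosed_of_maximal [JacobsonSpace X] {V : X.Opens} (hV : IsAffineOpen V) (Q : PrimeSpectrum Γ(X, V))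
    (hQ : Q.asIdeal.IsMaximal) : IsClosed ({hV.fromSpec Q} : Set X) := by
  refine isClosed_singleton_of_isLocallyClosed_singleton ?_
  rw [← Set.image_singleton]
  exact ((PrimeSpectrum.isClosed_singleton_iff_isMaximal Q).mpr hQ).isLocallyClosed.image
    hV.fromSpec.isOpenEmbedding.isInducing hV.fromSpec.isOpenEmbedding.isOpen_range.isLocallyClosed

theorem exists_scal_sub_mem {V : X.Opens} (hV : IsAffineOpen V) (P : Ideal Γ(X, V)) [P.IsMaximal] (a : Γ(X, V)) :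
    ∃ c : k, a - scal k V c ∈ P := by
  letI : Algebra k Γ(X, V) := (scal k V).toAlgebra
  haveI : Algebra.FiniteType k Γ(X, V) := by
    have h : ((X ↘ Spec (CommRingCat.of k)).appLE ⊤ V le_top).hom.FiniteType :=
      (X ↘ Spec (CommRingCat.of k)).finiteType_appLE (isAffineOpen_top _) hV le_top
    exact h.comp (RingHom.FiniteType.of_surjective _
      (ConcreteCategory.bijective_of_isIso (Scheme.ΓSpecIso (CommRingCat.of k)).inv).2)
  letI : Field (Γ(X, V) ⧸ P) := Ideal.Quotient.field P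
  haveI : Algebra.FiniteType k (Γ(X, V) ⧸ P) :=
    Algebra.FiniteType.of_surjective (Ideal.Quotient.mkₐ k P) Ideal.Quotient.mk_surjective
  haveI : Module.Finite k (Γ(X, V) ⧸ P) := finite_of_finite_type_of_isJacobsonRing k _
  haveI : Algebra.IsIntegral k (Γ(X, V) ⧸ P) := Algebra.IsIntegral.of_finite k _
  obtain ⟨c, hc⟩ := (IsAlgClosed.algebraMap_bijective_of_isIntegral (k := k)).2 (Ideal.Quotient.mk P a)
  exact ⟨c, Ideal.Quotient.eq.mp hc.symm⟩

include hX hpure hX' hU hU' hνU in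
/-- An element times `b` lands in `A` outside the conductor locus. -/
theorem eq_top_of_forall {V : X.Opens} (hV : IsAffineOpen V) {P : Ideal Γ(X, V)} (I : Ideal Γ(X, V))
    (hP : P.IsMaximal → ¬ I ≤ P)
    (hreg : ∀ Q : PrimeSpectrum Γ(X, V), Q.asIdeal.IsMaximal → Q.asIdeal ≠ P →
      IsRegularLocalRing (X.presheaf.stalk (hV.fromSpec Q)))
    (hI : letI := (ν.app V).hom.toAlgebra
      ∀ c, ν.app V c ∈ H06SNPush.cond Γ(X, V) Γ(X', ν ⁻¹ᵁ V) → c ∈ I) : I = ⊤ := by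
  by_contra hne
  obtain ⟨Q, hQ, hle⟩ := Ideal.exists_le_maximal I hne
  have hQP : Q ≠ P := fun h => hP (h ▸ hQ) (h ▸ hle)
  let y : V := ⟨hV.fromSpec ⟨Q, hQ.isPrime⟩, hV.range_fromSpec.le ⟨_, rfl⟩⟩
  obtain ⟨s, hs, hsc⟩ := exists_notMem_of_regular ν hX' hU hU' hνU hV y (hreg ⟨Q, hQ.isPrime⟩ hQ hQP)
  rw [show hV.primeIdealOf y = ⟨Q, hQ.isPrime⟩ from
    hV.fromSpec.isOpenEmbedding.injective (hV.fromSpec_primeIdealOf y)] at hs
  exact hs (hle (hI s hsc))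

include hX hpure hX' hU hU' hνU in
/-- A chart around a node. -/
theorem exists_chart_node {x : X} (hx : Curv2.IsNode k X x) {O : X.Opens} (hxO : x ∈ O) :
    ∃ (V : X.Opens) (hV : IsAffineOpen V) (hxV : x ∈ V), V ≤ O ∧
      letI := (ν.app V).hom.toAlgebra
      letI := (scal k V).toAlgebra
      ∃ (N : NodeData k Γ(X, V) Γ(X', ν ⁻¹ᵁ V)) (t : Γ(X, V)), t ∈ N.P ∧
          ν.app V t ∈ (Γ(X', ν ⁻¹ᵁ V))⁰ ∧ N.P = (hV.primeIdealOf ⟨x, hxV⟩).asIdeal := by
  obtain ⟨V, hV, hxV, hle, hreg⟩ := exists_small_le k hX hpure ν hX' hU hU' hνU hx.1 hxO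
  refine ⟨V, hV, hxV, hle, ?_⟩
  haveI : JacobsonSpace X := LocallyOfFiniteType.jacobsonSpace (X ↘ Spec (CommRingCat.of k))
  letI : Algebra Γ(X, V) Γ(X', ν ⁻¹ᵁ V) := (ν.app V).hom.toAlgebra
  letI : Algebra k Γ(X, V) := (scal k V).toAlgebra
  obtain ⟨hfin, hinj, t, ht, htB, hden⟩ := H06NormCurve.exists_chart ν hX' hU hU' hνU hV
  haveI : Module.Finite Γ(X, V) Γ(X', ν ⁻¹ᵁ V) := hfin
  let p := (hV.primeIdealOf ⟨x, hxV⟩).asIdeal
  haveI hpmax : p.IsMaximal := isMaximal_primeIdealOf hV ⟨x, hxV⟩ hx.1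
  obtain ⟨hmul, ⟨M₁, M₂, h₁, h₂, hne, hc₁, hc₂⟩, hgen⟩ := node_at k hpure ν hX' hU hU' hνU hV ⟨x, hxV⟩ hx
  have hreg' : ∀ Q : PrimeSpectrum Γ(X, V), Q.asIdeal.IsMaximal → Q.asIdeal ≠ p →
      IsRegularLocalRing (X.presheaf.stalk (hV.fromSpec Q)) := fun Q hQ hQp =>
    hreg _ (hV.range_fromSpec.le ⟨Q, rfl⟩) (isClosed_of_maximal hV Q hQ) fun h =>
      hQp (congrArg PrimeSpectrum.asIdeal
        (hV.fromSpec.isOpenEmbedding.injective (h.trans (hV.fromSpec_primeIdealOf ⟨x, hxV⟩).symm)))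
  -- the conductor contains the maximal ideal of the node
  have hrange : ∀ q ∈ p, ∀ b, ν.app V q * b ∈ Set.range (ν.app V) := fun q hq b => by
    let I : Ideal Γ(X, V) :=
      { carrier := {c | ν.app V c * (ν.app V q * b) ∈ Set.range (ν.app V)}
        zero_mem' := ⟨0, by rw [map_zero, zero_mul]⟩
        add_mem' := fun {u v} ⟨a, ha⟩ ⟨a', ha'⟩ => ⟨a + a', by rw [map_add, map_add, ha, ha', add_mul]⟩
        smul_mem' := fun r u ⟨a, ha⟩ => ⟨r * a, by rw [map_mul, ha, smul_eq_mul, map_mul, mul_assoc]⟩ }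
    have htop : I = ⊤ := eq_top_of_forall k hX hpure ν hX' hU hU' hνU hV (P := p) I (fun _ hle => by
        obtain ⟨s, hs, a, ha⟩ := hmul q hq b
        exact hs (hle ⟨a, by rw [← ha, map_mul, mul_assoc]⟩)) hreg' fun c hc => hc (ν.app V q * b)
    have h1 : (1 : Γ(X, V)) ∈ I := htop ▸ Submodule.mem_top
    have h1 : ν.app V 1 * (ν.app V q * b) ∈ Set.range (ν.app V) := h1
    rwa [map_one, one_mul] at h1
  have hmem : ∀ q ∈ p, ∀ b, ∃ a ∈ p, ν.app V q * b = ν.app V a := fun q hq b => by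
    obtain ⟨a, ha⟩ := hrange q hq b
    obtain ⟨a', ha'⟩ := hrange q hq (b * b)
    refine ⟨a, hpmax.isPrime.mem_of_pow_mem 2 ?_, ha.symm⟩
    rw [show a ^ 2 = q * a' from hinj (by rw [map_pow, map_mul, ha, ha']; ring)]
    exact Ideal.mul_mem_right _ _ hq
  obtain ⟨u, hu, v, hv, huv⟩ := Submodule.mem_sup.mp
    (((Ideal.isCoprime_iff_sup_eq.mp (Ideal.isCoprime_of_isMaximal hne)).ge) (Submodule.mem_top (x := (1 : Γ(X', ν ⁻¹ᵁ V)))))
  have hev : 1 - v ∈ M₁ := by rwa [← huv, add_sub_cancel_right]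
  have hgen' := hgen v fun s hs a ha => by
    have hap : a ∈ p := by
      show a ∈ (hV.primeIdealOf ⟨x, hxV⟩).asIdeal
      rw [← hc₂, Ideal.mem_comap, ← ha]
      exact Ideal.mul_mem_left _ _ hv
    have h1 : ν.app V s * v ∈ M₁ := ha ▸ (hc₁.ge hap : a ∈ M₁.comap (ν.app V).hom)
    have h2 : ν.app V s ∈ M₁ := by
      have := add_mem h1 (Ideal.mul_mem_left _ (ν.app V s) hev)
      rwa [← mul_add, add_sub_cancel, mul_one] at this
    exact hs (hc₁.le h2)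
  have hgenall : ∀ b, ∃ a c : Γ(X, V), b = ν.app V a + ν.app V c * v := fun b => by
    obtain ⟨s, hs, a, c, hab⟩ := hgen' b
    obtain ⟨y, q, hq, hyq⟩ := hpmax.exists_inv hs
    obtain ⟨a', -, ha'⟩ := hmem q hq b
    refine ⟨y * a + a', y * c, ?_⟩
    have h := congrArg (ν.app V) hyq
    rw [map_add, map_mul, map_one] at h
    rw [map_add, map_mul, map_mul, ← ha']
    linear_combination (-b) * h + ν.app V y * hab
  obtain ⟨n, hn⟩ := exists_pow_mem_cond hden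
  refine ⟨⟨p, hpmax, fun a => exists_scal_sub_mem k hV p a, hmem, M₁, M₂, h₁, h₂, hc₁, hc₂, v, hv, hev, hgenall⟩,
    t, ?_, htB, rfl⟩
  exact hpmax.isPrime.mem_of_pow_mem n (mem_of_node k hpure ν hX' hU hU' hνU hV ⟨x, hxV⟩ hx hn)

include hX hpure hX' hU hU' hνU in
/-- Around every point there is a trivial chart or the chart of a node. -/
theorem exists_chart_data {O : X.Opens} {x₀ : X} (hx₀ : x₀ ∈ O) :
    ∃ (V : X.Opens) (hV : IsAffineOpen V), x₀ ∈ V ∧ V ≤ O ∧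
      (Function.Surjective (ν.app V) ∨
        ∃ (x : X) (hxV : x ∈ V), Curv2.IsNode k X x ∧
          letI := (ν.app V).hom.toAlgebra
          letI := (scal k V).toAlgebra
          ∃ (N : NodeData k Γ(X, V) Γ(X', ν ⁻¹ᵁ V)) (t : Γ(X, V)), t ∈ N.P ∧
            ν.app V t ∈ (Γ(X', ν ⁻¹ᵁ V))⁰ ∧ N.P = (hV.primeIdealOf ⟨x, hxV⟩).asIdeal) := by
  haveI : JacobsonSpace X := LocallyOfFiniteType.jacobsonSpace (X ↘ Spec (CommRingCat.of k))
  obtain ⟨x, ⟨hxcl, hxO⟩, hxc⟩ := nonempty_inter_closedPoints (Z := closure {x₀} ∩ (O : Set X))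
    ⟨x₀, subset_closure rfl, hx₀⟩ (isClosed_closure.isLocallyClosed.inter O.2.isLocallyClosed)
  have hspec : x₀ ⤳ x := specializes_iff_mem_closure.mpr hxcl
  rcases hX x hxc with hsm | hnode
  · obtain ⟨V, hV, hxV, hle, hreg⟩ := exists_small_le k hX hpure ν hX' hU hU' hνU hxc hxO
    refine ⟨V, hV, hspec.mem_open V.2 hxV, hle, Or.inl fun b => ?_⟩
    letI : Algebra Γ(X, V) Γ(X', ν ⁻¹ᵁ V) := (ν.app V).hom.toAlgebra
    let I : Ideal Γ(X, V) :=
      { carrier := {c | ν.app V c * b ∈ Set.range (ν.app V)}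
        zero_mem' := ⟨0, by rw [map_zero, zero_mul]⟩
        add_mem' := fun {u v} ⟨a, ha⟩ ⟨a', ha'⟩ => ⟨a + a', by rw [map_add, map_add, ha, ha', add_mul]⟩
        smul_mem' := fun r u ⟨a, ha⟩ => ⟨r * a, by rw [map_mul, ha, smul_eq_mul, map_mul, mul_assoc]⟩ }
    have hreg' : ∀ Q : PrimeSpectrum Γ(X, V), Q.asIdeal.IsMaximal → Q.asIdeal ≠ ⊤ →
        IsRegularLocalRing (X.presheaf.stalk (hV.fromSpec Q)) := fun Q hQ _ => by
      rcases eq_or_ne (hV.fromSpec Q) x with h | h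
      · rw [h]; exact H06NormCurve.isRegularLocalRing_of_smooth_nhd (k := k) hsm
      · exact hreg _ (hV.range_fromSpec.le ⟨Q, rfl⟩) (isClosed_of_maximal hV Q hQ) h
    have htop : I = ⊤ := eq_top_of_forall k hX hpure ν hX' hU hU' hνU hV (P := ⊤) I
      (fun h _ => h.ne_top rfl) hreg' fun c hc => hc b
    have h1 : (1 : Γ(X, V)) ∈ I := htop ▸ Submodule.mem_top
    have h1 : ν.app V 1 * b ∈ Set.range (ν.app V) := h1
    rw [map_one, one_mul] at h1
    exact h1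
  · obtain ⟨V, hV, hxV, hle, hN⟩ := exists_chart_node k hX hpure ν hX' hU hU' hνU hnode hxO
    exact ⟨V, hV, hspec.mem_open V.2 hxV, hle, Or.inr ⟨x, hxV, hnode, hN⟩⟩

include hX hpure hX' hU hU' hνU in
theorem exists_ext_chart (D : OmegaSh.Der (X ↘ Spec (CommRingCat.of k)) (Coh.structureModule X)) (x : X) :
    ∃ V : X.Opens, IsAffineOpen V ∧ x ∈ V ∧ ∀ b : Γ(X', ν ⁻¹ᵁ V),
      letI := (ν.app V).hom.toAlgebra; ∃ z, IsExt (fun a => dfn D V a) b z := by
  obtain ⟨V, hV, hxV, -, h⟩ := exists_chart_data k hX hpure ν hX' hU hU' hνU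
    (show x ∈ (⊤ : X.Opens) from trivial)
  refine ⟨V, hV, hxV, fun b => ?_⟩
  letI : Algebra Γ(X, V) Γ(X', ν ⁻¹ᵁ V) := (ν.app V).hom.toAlgebra
  obtain ⟨hfin, hinj, t₀, -, ht₀, hden⟩ := H06NormCurve.exists_chart ν hX' hU hU' hνU hV
  haveI : Module.Finite Γ(X, V) Γ(X', ν ⁻¹ᵁ V) := hfin
  rcases h with hs | ⟨x₁, hx₁, -, N, t, ht, htB, -⟩
  · obtain ⟨a, rfl⟩ := hs b
    refine ⟨ν.app V (dfn D V a), fun c a₂ hca => ?_⟩
    have he : a₂ = c * a := hinj (by rw [map_mul]; exact hca.symm)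
    show ν.app V c * ν.app V (dfn D V a) + ν.app V a * ν.app V (dfn D V c) = ν.app V (dfn D V a₂)
    rw [he, dfn_mul, map_add, map_mul, map_mul]
  · letI : Algebra k Γ(X, V) := (scal k V).toAlgebra
    letI : Algebra k Γ(X', ν ⁻¹ᵁ V) := ((ν.app V).hom.comp (scal k V)).toAlgebra
    haveI : IsScalarTower k Γ(X, V) Γ(X', ν ⁻¹ᵁ V) := IsScalarTower.of_algebraMap_eq fun _ => rfl
    haveI : IsNoetherianRing Γ(X, V) := IsLocallyNoetherian.component_noetherian ⟨V, hV⟩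
    haveI : IsNoetherianRing Γ(X', ν ⁻¹ᵁ V) := IsNoetherianRing.of_finite Γ(X, V) _
    obtain ⟨n, a, hab⟩ := hden b
    exact N.exists_isExt hinj ht htB (fun a => dfn D V a) (fun a b => map_add _ a b) (dfn_mul D V)
      (dfn_scal k D V) (fun M _ => norm_localization ν hX' hV M) (s := t₀ ^ n) (a₀ := a)
      (by rw [map_pow]; exact pow_mem ht₀ n) (by rw [map_pow]; exact hab)

include hX hpure hX' hU hU' hνU in
/-- The extension fixes the points over the nodes. -/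
theorem germ_mem (D : OmegaSh.Der (X ↘ Spec (CommRingCat.of k)) (Coh.structureModule X))
    (D' : OmegaSh.Der (ν ≫ (X ↘ Spec (CommRingCat.of k))) (Coh.structureModule X'))
    (hD' : ∀ (V : X.Opens) (s : Γ(X, V)), dfn D' (ν ⁻¹ᵁ V) (ν.app V s) = ν.app V (dfn D V s))
    (x' : X') (hn : Curv2.IsNode k X (ν x')) (W : X'.Opens) (hx : x' ∈ W) (s : Γ(X', W)) :
    X'.presheaf.germ W x' hx (dfn D' W s) ∈ IsLocalRing.maximalIdeal (X'.presheaf.stalk x') := by
  obtain ⟨V, hV, hxV, -, N, t, ht, htB, hNP⟩ := exists_chart_node k hX hpure ν hX' hU hU' hνU hn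
    (show ν x' ∈ (⊤ : X.Opens) from trivial)
  letI : Algebra Γ(X, V) Γ(X', ν ⁻¹ᵁ V) := (ν.app V).hom.toAlgebra
  letI : Algebra k Γ(X, V) := (scal k V).toAlgebra
  letI : Algebra k Γ(X', ν ⁻¹ᵁ V) := ((ν.app V).hom.comp (scal k V)).toAlgebra
  haveI : IsScalarTower k Γ(X, V) Γ(X', ν ⁻¹ᵁ V) := IsScalarTower.of_algebraMap_eq fun _ => rfl
  obtain ⟨hfin, hinj, -, -, -, -⟩ := H06NormCurve.exists_chart ν hX' hU hU' hνU hV
  haveI : Module.Finite Γ(X, V) Γ(X', ν ⁻¹ᵁ V) := hfin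
  haveI : IsNoetherianRing Γ(X, V) := IsLocallyNoetherian.component_noetherian ⟨V, hV⟩
  haveI : IsNoetherianRing Γ(X', ν ⁻¹ᵁ V) := IsNoetherianRing.of_finite Γ(X, V) _
  let hV' := hV.preimage ν
  have hδ : ∀ b, dfn D' (ν ⁻¹ᵁ V) b ∈ N.P.map (algebraMap Γ(X, V) Γ(X', ν ⁻¹ᵁ V)) := fun b => by
    refine N.mem_map_of_isExt hinj ht htB (fun a => dfn D V a) (fun a b => map_add _ a b) (dfn_mul D V)
      (dfn_scal k D V) (fun b => dfn D' (ν ⁻¹ᵁ V) b) (fun b c a hca => ?_) (fun a b => map_add _ a b)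
      (dfn_mul D' _) b
    change ν.app V c * b = ν.app V a at hca
    show ν.app V c * dfn D' (ν ⁻¹ᵁ V) b + b * ν.app V (dfn D V c) = ν.app V (dfn D V a)
    rw [← hD', ← hD', ← hca, dfn_mul]
  have hmax : ∀ b, X'.presheaf.germ (ν ⁻¹ᵁ V) x' hxV (dfn D' (ν ⁻¹ᵁ V) b) ∈
      IsLocalRing.maximalIdeal (X'.presheaf.stalk x') := fun b => by
    letI := TopCat.Presheaf.algebra_section_stalk X'.presheaf (⟨x', hxV⟩ : (ν ⁻¹ᵁ V : X'.Opens))
    haveI := hV'.isLocalization_stalk ⟨x', hxV⟩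
    refine (IsLocalization.AtPrime.to_map_mem_maximal_iff (X'.presheaf.stalk x')
      (hV'.primeIdealOf ⟨x', hxV⟩).asIdeal (dfn D' (ν ⁻¹ᵁ V) b)).mpr ?_
    refine (Ideal.map_le_iff_le_comap.mpr ?_) (hδ b)
    have h := fromSpec_comap ν hV (hV'.primeIdealOf ⟨x', hxV⟩)
    rw [hV'.fromSpec_primeIdealOf] at h
    have h' := hV.fromSpec.isOpenEmbedding.injective (h.symm.trans (hV.fromSpec_primeIdealOf ⟨ν x', hxV⟩).symm)
    rw [hNP]
    exact (congrArg PrimeSpectrum.asIdeal h').ge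
  obtain ⟨g, hg, hxg⟩ := hV'.exists_basicOpen_le (V := W) ⟨x', hx⟩ hxV
  haveI := hV'.isLocalization_basicOpen g
  obtain ⟨⟨b, ⟨_, m, rfl⟩⟩, hb'⟩ := IsLocalization.surj (Submonoid.powers g) (res hg s)
  have hb : res hg s * res (X'.basicOpen_le g) (g ^ m) = res (X'.basicOpen_le g) b := hb'
  have h := congrArg (X'.presheaf.germ (X'.basicOpen g) x' hxg) (congrArg (dfn D' (X'.basicOpen g)) hb)
  simp only [dfn_mul, dfn_res, map_add, map_mul] at h
  simp only [res, TopCat.Presheaf.germ_res_apply] at h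
  set m' := IsLocalRing.maximalIdeal (X'.presheaf.stalk x')
  have hgu : IsUnit (X'.presheaf.germ (ν ⁻¹ᵁ V) x' hxV (g ^ m)) := by
    rw [map_pow]
    exact ((X'.mem_basicOpen g x' hxV).mp hxg).pow m
  have h2 : X'.presheaf.germ (ν ⁻¹ᵁ V) x' hxV (g ^ m) * X'.presheaf.germ W x' hx (dfn D' W s) ∈ m' := by
    refine (m'.add_mem_iff_right (Ideal.mul_mem_left _ (X'.presheaf.germ W x' hx s) (hmax (g ^ m)))).mp ?_
    exact h ▸ hmax b
  exact (Ideal.unit_mul_mem_iff_mem m' hgu).mp h2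

include hX hpure hX' hU hU' hνU in
/-- A derivation of `X'` fixing the points over the nodes comes from `X`. -/
theorem exists_descent (D' : OmegaSh.Der (ν ≫ (X ↘ Spec (CommRingCat.of k))) (Coh.structureModule X'))
    (hfix : ∀ x' : X', Curv2.IsNode k X (ν x') → ∀ (W : X'.Opens) (hx : x' ∈ W) (t : Γ(X', W)),
      X'.presheaf.germ W x' hx t ∈ IsLocalRing.maximalIdeal (X'.presheaf.stalk x') →
      X'.presheaf.germ W x' hx (dfn D' W t) ∈ IsLocalRing.maximalIdeal (X'.presheaf.stalk x')) :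
    ∃ D : OmegaSh.Der (X ↘ Spec (CommRingCat.of k)) (Coh.structureModule X),
      ∀ (V : X.Opens) (s : Γ(X, V)), dfn D' (ν ⁻¹ᵁ V) (ν.app V s) = ν.app V (dfn D V s) := by
  have hinjV : ∀ V : X.Opens, Function.Injective (ν.app V) := fun V a b hab => by
    refine TopCat.Sheaf.eq_of_locally_eq' ⟨X.presheaf, X.IsSheaf⟩
      (fun O : {O : X.Opens // IsAffineOpen O ∧ O ≤ V} => O.1) V (fun O => homOfLE O.2.2) ?_ a b fun O => ?_
    · intro y hy
      obtain ⟨O, hO, hyO, hOV⟩ := exists_isAffineOpen_mem_and_subset hy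
      exact Opens.mem_iSup.mpr ⟨⟨O, hO, hOV⟩, hyO⟩
    · obtain ⟨-, hinj, -⟩ := H06NormCurve.exists_chart ν hX' hU hU' hνU O.2.1
      refine hinj ?_
      show ν.app O.1 (res O.2.2 a) = ν.app O.1 (res O.2.2 b)
      rw [app_res, app_res, hab]
  have hex : ∀ (V₀ : X.Opens) (s : Γ(X, V₀)), ∃ z, ν.app V₀ z = dfn D' (ν ⁻¹ᵁ V₀) (ν.app V₀ s) := by
    intro V₀ s
    have hloc : ∀ y : V₀, ∃ (V : X.Opens) (hV : V ≤ V₀), (y : X) ∈ V ∧
        ∃ z, ν.app V z = res (ν.preimage_mono hV) (dfn D' (ν ⁻¹ᵁ V₀) (ν.app V₀ s)) := by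
      rintro ⟨y, hy⟩
      obtain ⟨V, hV, hyV, hle, h⟩ := exists_chart_data k hX hpure ν hX' hU hU' hνU hy
      refine ⟨V, hle, hyV, ?_⟩
      rw [← dfn_res, ← app_res]
      rcases h with hs | ⟨x, hxV, hnode, N, t, -, -, hNP⟩
      · exact hs _
      · letI : Algebra Γ(X, V) Γ(X', ν ⁻¹ᵁ V) := (ν.app V).hom.toAlgebra
        letI : Algebra k Γ(X, V) := (scal k V).toAlgebra
        letI : Algebra k Γ(X', ν ⁻¹ᵁ V) := ((ν.app V).hom.comp (scal k V)).toAlgebra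
        haveI : IsScalarTower k Γ(X, V) Γ(X', ν ⁻¹ᵁ V) := IsScalarTower.of_algebraMap_eq fun _ => rfl
        obtain ⟨hfin, -, -, -, -, -⟩ := H06NormCurve.exists_chart ν hX' hU hU' hνU hV
        haveI : Module.Finite Γ(X, V) Γ(X', ν ⁻¹ᵁ V) := hfin
        haveI : IsNoetherianRing Γ(X, V) := IsLocallyNoetherian.component_noetherian ⟨V, hV⟩
        haveI : IsNoetherianRing Γ(X', ν ⁻¹ᵁ V) := IsNoetherianRing.of_finite Γ(X, V) _
        refine N.mem_range_of_fix (fun b => dfn D' (ν ⁻¹ᵁ V) b) (fun a b => map_add _ a b)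
          (app_scal k ν D' V) ?_ ?_ (res hle s)
        all_goals
          intro b hb
          have hkey : ∀ (M : Ideal Γ(X', ν ⁻¹ᵁ V)) (hM : M.IsMaximal), M.comap (algebraMap Γ(X, V) Γ(X', ν ⁻¹ᵁ V)) = N.P →
              b ∈ M → dfn D' (ν ⁻¹ᵁ V) b ∈ M := by
            intro M hM hMc hbM
            let hV' := hV.preimage ν
            let x' := hV'.fromSpec ⟨M, hM.isPrime⟩
            have hx'V : x' ∈ ν ⁻¹ᵁ V := hV'.range_fromSpec.le ⟨_, rfl⟩
            have hνx : ν x' = x :=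
              (fromSpec_comap ν hV _).trans ((congrArg hV.fromSpec (PrimeSpectrum.ext (hMc.trans hNP))).trans
                (hV.fromSpec_primeIdealOf ⟨x, hxV⟩))
            have hp : hV'.primeIdealOf ⟨x', hx'V⟩ = ⟨M, hM.isPrime⟩ :=
              hV'.fromSpec.isOpenEmbedding.injective (hV'.fromSpec_primeIdealOf ⟨x', hx'V⟩)
            letI := TopCat.Presheaf.algebra_section_stalk X'.presheaf (⟨x', hx'V⟩ : (ν ⁻¹ᵁ V : X'.Opens))
            haveI := hV'.isLocalization_stalk ⟨x', hx'V⟩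
            have hiff : ∀ c : Γ(X', ν ⁻¹ᵁ V), X'.presheaf.germ (ν ⁻¹ᵁ V) x' hx'V c ∈
                IsLocalRing.maximalIdeal (X'.presheaf.stalk x') ↔ c ∈ M := fun c =>
              (IsLocalization.AtPrime.to_map_mem_maximal_iff (X'.presheaf.stalk x')
                (hV'.primeIdealOf ⟨x', hx'V⟩).asIdeal c).trans (by rw [hp])
            exact (hiff _).mp (hfix x' (hνx ▸ hnode) _ hx'V b ((hiff b).mpr hbM))
          first
            | exact hkey _ N.h₁ N.c₁ hb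
            | exact hkey _ N.h₂ N.c₂ hb
    choose C hC hyC z hz using hloc
    have hcov : V₀ ≤ iSup C := fun y hy => Opens.mem_iSup.mpr ⟨⟨y, hy⟩, hyC ⟨y, hy⟩⟩
    obtain ⟨Z, hZ, -⟩ := TopCat.Sheaf.existsUnique_gluing' ⟨X.presheaf, X.IsSheaf⟩ C V₀
      (fun i => homOfLE (hC i)) hcov z fun i j => by
        refine hinjV _ ?_
        show ν.app _ (res (inf_le_left : C i ⊓ C j ≤ C i) (z i)) = ν.app _ (res (inf_le_right : C i ⊓ C j ≤ C j) (z j))
        rw [app_res, app_res, hz, hz, res_res, res_res]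
    refine ⟨Z, TopCat.Sheaf.eq_of_locally_eq' ⟨X'.presheaf, X'.IsSheaf⟩ (fun i => ν ⁻¹ᵁ C i) (ν ⁻¹ᵁ V₀)
      (fun i => homOfLE (ν.preimage_mono (hC i))) ?_ _ _ fun i => ?_⟩
    · intro y hy
      obtain ⟨i, hi⟩ := Opens.mem_iSup.mp (hcov (show ν y ∈ V₀ from hy))
      exact Opens.mem_iSup.mpr ⟨i, hi⟩
    · show res (ν.preimage_mono (hC i)) (ν.app V₀ Z) = res (ν.preimage_mono (hC i)) _
      rw [← app_res ν (hC i), show res (hC i) Z = z i from hZ i]
      exact hz i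
  choose F hF using hex
  have hFadd : ∀ (V : X.Opens) (a b : Γ(X, V)), F V (a + b) = F V a + F V b := fun V a b =>
    hinjV _ (by rw [map_add (ν.app V).hom (F V a), hF, hF, hF, map_add (ν.app V).hom a, map_add])
  refine ⟨⟨fun {V} => AddMonoidHom.mk' (F V.unop) (hFadd V.unop),
    fun {V} a b => hinjV V.unop ?_, fun {V V'} g a => hinjV V'.unop ?_, fun {V} c => hinjV _ ?_⟩,
    fun V s => (hF V s).symm⟩
  · show ν.app V.unop (F V.unop (a * b)) = ν.app V.unop (a * F V.unop b + b * F V.unop a)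
    simp only [map_add, map_mul, hF, dfn_mul]
  · show ν.app V'.unop (F V'.unop (res (leOfHom g.unop) a)) = ν.app V'.unop (res (leOfHom g.unop) (F V.unop a))
    rw [hF, app_res, app_res, dfn_res, hF]
  · show ν.app _ (F _ ((X ↘ Spec (CommRingCat.of k)).app V.unop c)) = ν.app _ 0
    rw [hF, map_zero]
    exact dfn_app D' V.unop c

end Groth.Agent.H06NodeDer
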